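import Groth.Agent.H25DTen.Dev
import Mathlib.CategoryTheory.Triangulated.Yoneda

/-!
# Natural transformations of triangulated functors invertible at two vertices
-/

set_option autoImplicit false
set_option linter.style.haveILetI false

universe w

open CategoryTheory CategoryTheory.Limits CategoryTheory.Pretriangulated Opposite

namespace Groth.Agent.H16Derived.BaseChange

variable {C D : Type*} [Category C] [Category.{w} D] [HasShift C ℤ] [HasShift D ℤ] [HasZeroObject C]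
  [HasZeroObject D] [Preadditive C] [Preadditive D] [∀ n : ℤ, (shiftFunctor C n).Additive]
  [∀ n : ℤ, (shiftFunctor D n).Additive] [Pretriangulated C] [Pretriangulated D]

theorem isIso_shift_ext {F G : C ⥤ D} [F.CommShift ℤ] [G.CommShift ℤ] [F.IsTriangulated] [G.IsTriangulated]
    (τ : F ⟶ G) (T : Triangle C) (hT : T ∈ distTriang C) (h₁ : ∀ n : ℤ, IsIso (τ.app (T.obj₁⟦n⟧)))
    (h₃ : ∀ n : ℤ, IsIso (τ.app (T.obj₃⟦n⟧))) (n : ℤ) : IsIso (τ.app (T.obj₂⟦n⟧)) := by
  refine (isIso_iff_yoneda_map_bijective _).2 fun Z => ?_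
  have hex : ∀ (H : C ⥤ D) [H.CommShift ℤ] [H.IsTriangulated],
      H25DTen.Dev.IsExact (H ⋙ preadditiveCoyoneda.obj (op Z)) := by
    intro H _ _ T hT x
    constructor
    · intro hx
      obtain ⟨y, hy⟩ := Triangle.coyoneda_exact₂ _ (H.map_distinguished _ hT) x hx
      exact ⟨y, hy.symm⟩
    · rintro ⟨y, rfl⟩
      change (y ≫ H.map T.mor₁) ≫ H.map T.mor₂ = 0
      rw [Category.assoc, ← H.map_comp, comp_distTriang_mor_zero₁₂ _ hT, H.map_zero, comp_zero]
  exact H25DTen.Dev.bijective_shift_ext (Functor.whiskerRight τ (preadditiveCoyoneda.obj (op Z)))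
    (hex F) (hex G) T hT (fun m => (isIso_iff_yoneda_map_bijective _).1 (h₁ m) Z)
    (fun m => (isIso_iff_yoneda_map_bijective _).1 (h₃ m) Z) n

/-- The middle vertex. -/
theorem isIso_ext {F G : C ⥤ D} [F.CommShift ℤ] [G.CommShift ℤ] [F.IsTriangulated] [G.IsTriangulated]
    (τ : F ⟶ G) (T : Triangle C) (hT : T ∈ distTriang C) (h₁ : ∀ n : ℤ, IsIso (τ.app (T.obj₁⟦n⟧)))
    (h₃ : ∀ n : ℤ, IsIso (τ.app (T.obj₃⟦n⟧))) : IsIso (τ.app T.obj₂) :=
  haveI := isIso_shift_ext τ T hT h₁ h₃ 0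
  (NatTrans.isIso_app_iff_of_iso τ ((shiftFunctorZero C ℤ).app T.obj₂)).1 this

end Groth.Agent.H16Derived.BaseChange
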