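import Groth.Agent.H16Derived.BaseChange.Square
import Groth.Agent.H16Derived.BaseChange.TriIso
import Groth.Agent.H16Derived.MVPush.Main

/-!
# Mayer–Vietoris dévissage for natural transformations
-/

set_option autoImplicit false
set_option linter.style.haveILetI false
set_option linter.unusedSectionVars false

universe u

open CategoryTheory CategoryTheory.Limits AlgebraicGeometry CategoryTheory.Pretriangulated TopologicalSpace

attribute [local instance] HasDerivedCategory.standard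

namespace Groth.Agent.H16Derived.BaseChange

open Groth.Agent.H16Derived.KFlat Groth.Agent.H16Derived.KFlat.Stalk

section Abstract

variable {X W W' : Scheme.{u}} {D : Type*} [Category D] [HasShift D ℤ] [HasZeroObject D] [Preadditive D]
  [∀ n : ℤ, (shiftFunctor D n).Additive] [Pretriangulated D]
  {F G : DCoh.D X ⥤ D} [F.CommShift ℤ] [G.CommShift ℤ] [F.IsTriangulated] [G.IsTriangulated] (τ : F ⟶ G)

/-- `τ` is invertible on direct images from `W`. -/
def Good (k : W ⟶ X) : Prop :=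
  ∀ (E : DCoh.D W), DCoh.IsQCohD E → IsIso (τ.app ((@DCoh.Rpush _ _ k (QCohD.hasRpush k)).obj E))

theorem Good.comp {k : W ⟶ X} (hk : Good τ k) (σ : W' ⟶ W) [QuasiCompact σ] [QuasiSeparated σ] :
    Good τ (σ ≫ k) := by
  intro E hE
  haveI := QCohD.hasRpush (σ ≫ k)
  haveI := QCohD.hasRpush k
  haveI := QCohD.hasRpush σ
  obtain ⟨e⟩ := nonempty_rpushCompIso σ k
  exact (NatTrans.isIso_app_iff_of_iso τ (e.app E)).1 (hk _ (QCohD.isQCohD_rpush σ hE))

theorem isIso_app_of_isZero {Z : DCoh.D X} (hZ : IsZero Z) : IsIso (τ.app Z) :=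
  ⟨0, (F.map_isZero hZ).eq_of_src _ _, (G.map_isZero hZ).eq_of_src _ _⟩

theorem isQCohD_shift {E : DCoh.D X} (hE : DCoh.IsQCohD E) (n : ℤ) : DCoh.IsQCohD (E⟦n⟧) := fun m =>
  QCohD.isQCoh_iso (((DerivedCategory.homologyFunctor _ 0).shiftIso n m (n + m) rfl).app _).symm (hE (n + m))

theorem Good.shift {k : W ⟶ X} (hk : Good τ k) [DCoh.HasRpush k] (E : DCoh.D W) (hE : DCoh.IsQCohD E)
    (n : ℤ) : IsIso (τ.app (((DCoh.Rpush k).obj E)⟦n⟧)) :=
  letI := rpushCommShift k
  (NatTrans.isIso_app_iff_of_iso τ (((DCoh.Rpush k).commShiftIso n).app E)).1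
    (hk _ (isQCohD_shift hE n))

variable (S U : X.Opens)

/-- Gluing two opens. -/
theorem good_sup (hS : Good τ S.ι) (hU : Good τ U.ι) (hSU : Good τ (S ⊓ U).ι) : Good τ (S ⊔ U).ι := by
  intro E hE
  haveI := QCohD.hasRpush (S ⊔ U).ι
  let W := (S ⊔ U).ι
  let a := W ⁻¹ᵁ S
  let b := W ⁻¹ᵁ U
  have hab : a ⊔ b = ⊤ := by
    refine eq_top_iff.2 fun x _ => ?_
    exact (x.2 : W.base x ∈ S ⊔ U)
  have hgood : ∀ (T : X.Opens) (hT : T ≤ S ⊔ U), Good τ T.ι → Good τ ((W ⁻¹ᵁ T).ι ≫ W) := by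
    intro T hT hg
    haveI : IsOpenImmersion ((W ⁻¹ᵁ T).ι ≫ W) := inferInstance
    have hr : Set.range ((W ⁻¹ᵁ T).ι ≫ W).base = Set.range T.ι.base := by
      ext x
      simp only [Scheme.Opens.range_ι]
      constructor
      · rintro ⟨y, rfl⟩
        exact y.2
      · intro hx
        exact ⟨⟨⟨x, hT hx⟩, hx⟩, rfl⟩
    let σ := IsOpenImmersion.isoOfRangeEq ((W ⁻¹ᵁ T).ι ≫ W) T.ι hr
    rw [show (W ⁻¹ᵁ T).ι ≫ W = σ.hom ≫ T.ι from (IsOpenImmersion.lift_fac _ _ _).symm]
    exact hg.comp τ σ.hom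
  haveI := QCohD.hasRpush a.ι
  haveI := QCohD.hasRpush b.ι
  haveI := QCohD.hasRpush (a ⊓ b).ι
  obtain ⟨p, q, r, hT⟩ := MVPush.exists_triangle_rpush a b hab E
  letI := rpushCommShift W
  haveI := rpush_isTriangulated W
  have hT' := (DCoh.Rpush W).map_distinguished _ hT
  have hpiece : ∀ (c : (↑(S ⊔ U) : Scheme.{u}).Opens) [DCoh.HasRpush c.ι], Good τ (c.ι ≫ W) → ∀ n : ℤ,
      IsIso (τ.app (((DCoh.Rpush W).obj ((DCoh.Rpush c.ι).obj ((DCoh.restrictD c.ι).obj E)))⟦n⟧)) := by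
    intro c _ hc n
    haveI := QCohD.hasRpush (c.ι ≫ W)
    obtain ⟨e⟩ := nonempty_rpushCompIso c.ι W
    exact (NatTrans.isIso_app_iff_of_iso τ ((shiftFunctor _ n).mapIso (e.app _))).2
      (hc.shift τ _ (QCohD.isQCohD_rd c.ι hE) n)
  have ha := hpiece a (hgood S le_sup_left hS)
  have hb := hpiece b (hgood U le_sup_right hU)
  have hc : ∀ n : ℤ, IsIso (τ.app (((DCoh.Rpush W).obj ((DCoh.Rpush (a ⊓ b).ι).obj
      ((DCoh.restrictD (a ⊓ b).ι).obj E)))⟦n⟧)) :=
    hpiece _ (hgood (S ⊓ U) (inf_le_left.trans le_sup_left) hSU)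
  let B₁ := (DCoh.Rpush a.ι).obj ((DCoh.restrictD a.ι).obj E)
  let B₂ := (DCoh.Rpush b.ι).obj ((DCoh.restrictD b.ι).obj E)
  have h₂ : ∀ n : ℤ, IsIso (τ.app (((DCoh.Rpush W).obj (B₁ ⊞ B₂))⟦n⟧)) := fun n =>
    isIso_shift_ext τ _ ((DCoh.Rpush W).map_distinguished _ (binaryBiproductTriangle_distinguished B₁ B₂))
      ha hb n
  refine isIso_ext τ ((DCoh.Rpush W).mapTriangle.obj (Triangle.mk p q r)).invRotate
    (inv_rot_of_distTriang _ hT') (fun n => ?_) h₂
  exact (NatTrans.isIso_app_iff_of_iso τ ((shiftFunctorAdd _ (-1) n).app _)).1 (hc (-1 + n))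

end Abstract

variable {X : Scheme.{u}} {D : Type*} [Category D] [HasShift D ℤ] [HasZeroObject D] [Preadditive D]
  [∀ n : ℤ, (shiftFunctor D n).Additive] [Pretriangulated D]
  {F G : DCoh.D X ⥤ D} [F.CommShift ℤ] [G.CommShift ℤ] [F.IsTriangulated] [G.IsTriangulated] (τ : F ⟶ G)

theorem good_bot : Good τ (⊥ : X.Opens).ι := by
  intro E _
  haveI := QCohD.hasRpush (⊥ : X.Opens).ι
  letI := rpushCommShift (⊥ : X.Opens).ι
  haveI := rpush_isTriangulated (⊥ : X.Opens).ι
  exact isIso_app_of_isZero τ ((DCoh.Rpush (⊥ : X.Opens).ι).map_isZero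
    (isZero_of_cover fun x => (x.2 : False).elim))

variable (h : ∀ (B : CommRingCat.{u}) (k : Spec B ⟶ X) [IsOpenImmersion k], Good τ k)

include h in
theorem good_affine {U : X.Opens} (hU : IsAffineOpen U) : Good τ U.ι := by
  have h1 := (h _ hU.fromSpec).comp τ hU.isoSpec.hom
  rwa [hU.isoSpec_hom_fromSpec] at h1

include h in
/-- Finite unions of affine opens inside an affine open. -/
theorem good_sup_finset {U₀ : X.Opens} (hU₀ : IsAffineOpen U₀) {ι : Type*} (s : Finset ι)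
    (V : ι → X.Opens) (hV : ∀ i ∈ s, IsAffineOpen (V i)) (hle : ∀ i ∈ s, V i ≤ U₀) :
    Good τ (s.sup V).ι := by
  classical
  induction s using Finset.induction_on generalizing V with
  | empty =>
    rw [Finset.sup_empty]
    exact good_bot τ
  | @insert j s hj ih =>
    rw [Finset.sup_insert]
    refine good_sup τ _ _ (good_affine τ h (hV j (Finset.mem_insert_self j s)))
      (ih V (fun i hi => hV i (Finset.mem_insert_of_mem hi)) fun i hi => hle i (Finset.mem_insert_of_mem hi)) ?_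
    rw [Finset.sup_inf_distrib_left]
    refine ih _ (fun i hi => ?_) fun i hi => inf_le_left.trans (hle j (Finset.mem_insert_self j s))
    haveI : IsAffine U₀ := hU₀
    have hp : ∀ k ∈ insert j s, IsAffineOpen (U₀.ι ⁻¹ᵁ V k) := fun k hk =>
      (U₀.ι.isAffineOpen_iff_of_isOpenImmersion (U := U₀.ι ⁻¹ᵁ V k)).1 (by
        rw [U₀.ι.image_preimage_eq_opensRange_inf, Scheme.Opens.opensRange_ι,
          inf_eq_right.2 (hle k hk)]
        exact hV k hk)
    have h2 := ((hp j (Finset.mem_insert_self j s)).inf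
      (hp i (Finset.mem_insert_of_mem hi))).image_of_isOpenImmersion U₀.ι
    rwa [← Scheme.Hom.preimage_inf, U₀.ι.image_preimage_eq_opensRange_inf, Scheme.Opens.opensRange_ι,
      inf_eq_right.2 (inf_le_left.trans (hle j (Finset.mem_insert_self j s)))] at h2

include h in
/-- Compact opens. -/
theorem good_of_isCompact [QuasiSeparatedSpace X] (S : X.Opens) (hS : IsCompact (S : Set X)) :
    Good τ S.ι := by
  refine compact_open_induction_on (P := fun S : X.Opens => Good τ S.ι) S hS (good_bot τ) fun T hT U hT' => ?_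
  refine good_sup τ T U.1 hT' (good_affine τ h U.2) ?_
  obtain ⟨s, hs, he⟩ := (isCompact_iff_finite_and_eq_biUnion_affineOpens (U := T ⊓ U.1)).1
    (QuasiSeparatedSpace.inter_isCompact T.1 U.1.1 T.2 hT U.1.2 U.2.isCompact)
  have he' : T ⊓ U.1 = hs.toFinset.sup fun V => V.1 := by
    rw [Finset.sup_eq_iSup]
    simpa using he
  rw [he']
  exact good_sup_finset τ h U.2 _ _ (fun V _ => V.2)
    fun V hV => ((Finset.le_sup hV).trans he'.ge).trans inf_le_right

include h in
/-- A transformation invertible on direct images from affine opens is invertible on `D_QCoh`. -/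
theorem isIso_app_of_affine [CompactSpace X] [QuasiSeparatedSpace X] (E : DCoh.D X) (hE : DCoh.IsQCohD E) :
    IsIso (τ.app E) := by
  haveI := QCohD.hasRpush (⊤ : X.Opens).ι
  obtain ⟨e⟩ := MVPush.nonempty_iso_rpush_restrict ⊤ Set.univ isClosed_univ
    (fun _ _ => trivial) E fun _ => Set.subset_univ _
  exact (NatTrans.isIso_app_iff_of_iso τ e).2
    (good_of_isCompact τ h ⊤ CompactSpace.isCompact_univ _ (QCohD.isQCohD_rd _ hE))

end Groth.Agent.H16Derived.BaseChange
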