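import Groth.Agent.H16Derived.BaseChange.AffineCase
import Groth.Agent.H16Derived.BaseChange.Devissage
import Groth.Agent.H3CAlg.TorComm
import Groth.Agent.H1CAlg.Tor
import Mathlib.AlgebraicGeometry.Morphisms.Flat

/-!
# Tor independent base change for `Rf_*` on `D_QCoh`
-/

set_option autoImplicit false
set_option linter.style.haveILetI false
set_option backward.isDefEq.respectTransparency false

universe u

open CategoryTheory CategoryTheory.Limits AlgebraicGeometry TensorProduct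

attribute [local instance] HasDerivedCategory.standard
attribute [local instance] Algebra.TensorProduct.rightAlgebra

namespace Groth.Agent.H16Derived.BaseChange

open Groth.Agent.H16Derived.KFlat Groth.Agent.H16Derived.KFlat.Stalk

variable {X Y Y' X' : Scheme.{u}}

/-- Tor independence of two morphisms, on affine charts. -/
def TI (f : X ⟶ Y) (g : Y' ⟶ Y) : Prop :=
  ∀ (A A' B : CommRingCat.{u}) (a : Spec A ⟶ Y) (a' : Spec A' ⟶ Y') (b : Spec B ⟶ X)
    [IsOpenImmersion a] [IsOpenImmersion a'] [IsOpenImmersion b] (φ : A ⟶ A') (ψ : A ⟶ B),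
    Spec.map φ ≫ a = a' ≫ g → Spec.map ψ ≫ a = b ≫ f → ∀ i : ℕ, 0 < i →
      Subsingleton (@DRing.Tor A _ i A' B _ φ.hom.toModule _ ψ.hom.toModule)

/-- Tor independence is inherited by charts. -/
theorem TI.restrict {f : X ⟶ Y} {g : Y' ⟶ Y} (h : TI f g) {V V' W : Scheme.{u}} (i : V ⟶ Y)
    [IsOpenImmersion i] (i' : V' ⟶ Y') [IsOpenImmersion i'] (iX : W ⟶ X) [IsOpenImmersion iX]
    {fV : W ⟶ V} {gV : V' ⟶ V} (hf : fV ≫ i = iX ≫ f) (hg : gV ≫ i = i' ≫ g) : TI fV gV := by
  intro A A' B a a' b _ _ _ φ ψ h1 h2 n hn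
  refine h A A' B (a ≫ i) (a' ≫ i') (b ≫ iX) φ ψ ?_ ?_ n hn
  · rw [← Category.assoc, h1, Category.assoc, hg, Category.assoc]
  · rw [← Category.assoc, h2, Category.assoc, hf, Category.assoc]

theorem flat_hom_of_comp {A B : CommRingCat.{u}} (ψ : A ⟶ B) (a : Spec A ⟶ Y) [IsOpenImmersion a]
    [Flat (Spec.map ψ ≫ a)] : ψ.hom.Flat := by
  haveI : Flat (Spec.map ψ) := MorphismProperty.of_postcomp (W := @Flat) (W' := @IsOpenImmersion)
    (Spec.map ψ) a inferInstance inferInstance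
  exact (HasRingHomProperty.Spec_iff (P := @Flat)).1 inferInstance

/-- A flat morphism is Tor independent of everything. -/
theorem ti_of_flat (f : X ⟶ Y) (g : Y' ⟶ Y) [Flat f] : TI f g := by
  intro A A' B a a' b _ _ _ φ ψ h1 h2 n hn
  haveI : Flat (Spec.map ψ ≫ a) := h2 ▸ inferInstance
  have hψ := flat_hom_of_comp ψ a
  algebraize [φ.hom, ψ.hom]
  obtain ⟨k, rfl⟩ := Nat.exists_eq_succ_of_ne_zero hn.ne'
  obtain ⟨e⟩ := H3CAlg.TorComm.nonempty_iso (k + 1) (ModuleCat.of A A') (ModuleCat.of A B)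
  exact ModuleCat.subsingleton_of_isZero
    ((H1CAlg.isZero_Tor_of_flat (ModuleCat.of A B) (ModuleCat.of A A') k).of_iso e)

/-- Everything is Tor independent of a flat morphism. -/
theorem ti_of_flat' (f : X ⟶ Y) (g : Y' ⟶ Y) [Flat g] : TI f g := by
  intro A A' B a a' b _ _ _ φ ψ h1 h2 n hn
  haveI : Flat (Spec.map φ ≫ a) := h1 ▸ inferInstance
  have hφ := flat_hom_of_comp φ a
  algebraize [φ.hom, ψ.hom]
  obtain ⟨k, rfl⟩ := Nat.exists_eq_succ_of_ne_zero hn.ne'
  exact ModuleCat.subsingleton_of_isZero (H1CAlg.isZero_Tor_of_flat (ModuleCat.of A A') (ModuleCat.of A B) k)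

/-- The affine case. -/
theorem bc_affine {A A' : CommRingCat.{u}} [IsAffine X] {f : X ⟶ Spec A} {f' : X' ⟶ Spec A'}
    {φ : A ⟶ A'} {g' : X' ⟶ X} (h : IsPullback g' f' f (Spec.map φ)) (hTI : TI f (Spec.map φ)) :
    BC f f' (Spec.map φ) g' := by
  obtain ⟨B, σ, _, ψ, hψ⟩ : ∃ (B : CommRingCat.{u}) (σ : Spec B ⟶ X) (_ : IsIso σ) (ψ : A ⟶ B),
      Spec.map ψ = σ ≫ f := ⟨Γ(X, ⊤), X.isoSpec.inv, inferInstance, Spec.preimage _, Spec.map_preimage _⟩
  algebraize [φ.hom, ψ.hom]
  have htor : ∀ p : ℕ, 0 < p → Subsingleton (DRing.Tor A p A' B) := fun p hp =>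
    hTI A A' B (𝟙 _) (𝟙 _) σ φ ψ (by simp) (by rw [Category.comp_id, hψ]) p hp
  let B' := (A' : Type u) ⊗[(A : Type u)] (B : Type u)
  let f₀ : Spec (CommRingCat.of B') ⟶ Spec A' := Spec.map (CommRingCat.ofHom (algebraMap A' B'))
  let g₀ : Spec (CommRingCat.of B') ⟶ Spec B := Spec.map (CommRingCat.ofHom (algebraMap B B'))
  have h₀ : IsPullback g₀ f₀ (Spec.map ψ) (Spec.map φ) :=
    (isPullback_SpecMap_of_isPushout _ _ _ _
      (CommRingCat.isPushout_of_isPushout A A' B B')).flip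
  have hbc : BC (Spec.map ψ) f₀ (Spec.map φ) g₀ := bc_spec A A' B B' htor
  haveI := hasLpull f
  haveI := QCohD.hasRpush f
  haveI := hasLpull f'
  haveI := QCohD.hasRpush f'
  haveI := hasLpull (Spec.map φ)
  haveI := hasLpull g'
  haveI := hasLpull (𝟙 (Spec A'))
  let τ := h.lift (g₀ ≫ σ) f₀ (by rw [Category.assoc, ← hψ]; exact h₀.w)
  have hτ : τ ≫ g' = g₀ ≫ σ := h.lift_fst _ _ _
  have hV : IsPullback σ (Spec.map ψ) f (𝟙 _) :=
    IsPullback.of_horiz_isIso ⟨by rw [Category.comp_id, hψ]⟩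
  have hV' : IsPullback τ f₀ f' (𝟙 _) := by
    refine IsPullback.of_right ?_ (by rw [Category.comp_id]; exact h.lift_snd _ _ _) h
    rw [hτ, Category.id_comp]
    simpa using h₀.paste_horiz hV
  refine bc_of_can fun χ E hE => isIso_of_charts _ fun y =>
    ⟨_, 𝟙 _, inferInstance, inferInstance, ⟨y, rfl⟩, ?_⟩
  exact isIso_lpull_bcApp hV hV' (by simp) hτ.symm hbc χ E hE

/-- Base change of affine morphisms. -/
theorem bc_affineHom {f : X ⟶ Y} {f' : X' ⟶ Y'} {g : Y' ⟶ Y} {g' : X' ⟶ X}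
    (h : IsPullback g' f' f g) [IsAffineHom f] (hTI : TI f g) : BC f f' g g' := by
  refine bc_of_local h fun A A' i _ i' _ φ hb W W' iX fV gV' fV' hW hW' => ?_
  haveI : IsOpenImmersion iX := MorphismProperty.of_isPullback hW.flip ‹IsOpenImmersion i›
  haveI : IsAffineHom fV := MorphismProperty.of_isPullback hW ‹IsAffineHom f›
  haveI : IsAffine W := isAffine_of_isAffineHom fV
  exact bc_affine hW' (hTI.restrict i i' iX hW.w.symm hb)

/-- The devissage step: base change over affine bases, knowing it for affine opens of the source. -/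
theorem bc_step {A A' : CommRingCat.{u}} {f : X ⟶ Spec A} {f' : X' ⟶ Spec A'} {φ : A ⟶ A'}
    {g' : X' ⟶ X} (h : IsPullback g' f' f (Spec.map φ)) (hTI : TI f (Spec.map φ)) [QuasiCompact f]
    [QuasiSeparated f]
    (hk : ∀ (B : CommRingCat.{u}) (k : Spec B ⟶ X) [IsOpenImmersion k] (U' : Scheme.{u})
      (k' : U' ⟶ X') (gU : U' ⟶ Spec B), IsPullback gU k' k g' → BC k k' g' gU) :
    BC f f' (Spec.map φ) g' := by
  haveI := hasLpull f
  haveI := QCohD.hasRpush f
  haveI := hasLpull f'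
  haveI := QCohD.hasRpush f'
  haveI := hasLpull (Spec.map φ)
  haveI := hasLpull g'
  haveI := QCohD.hasRpush g'
  haveI : CompactSpace X := QuasiCompact.compactSpace_of_compactSpace f
  haveI : QuasiSeparatedSpace X := quasiSeparatedSpace_of_quasiSeparated f
  refine bc_of_can fun χ E hE => ?_
  letI := rpushCommShift f
  haveI := rpush_isTriangulated f
  letI := rpushCommShift f'
  haveI := rpush_isTriangulated f'
  letI := lpullCommShift (Spec.map φ)
  haveI := lpull_isTriangulated (Spec.map φ)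
  letI := lpullCommShift g'
  haveI := lpull_isTriangulated g'
  refine isIso_app_of_affine (bc (lpullRpushAdj f) (lpullRpushAdj f') χ.hom) (fun B k _ => ?_) E hE
  intro M hM
  haveI := QCohD.hasRpush k
  let hU := IsPullback.of_hasPullback k g'
  let k' := pullback.snd k g'
  let gU := pullback.fst k g'
  haveI := hasLpull k
  haveI := hasLpull k'
  haveI := QCohD.hasRpush k'
  haveI := hasLpull gU
  obtain ⟨ψ⟩ := nonempty_sq hU.w (isLp_self k) (isLp_self k') (isLp_self g') (isLp_self gU)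
  have hcomp := bc_affine (hU.paste_vert h)
    (hTI.restrict (𝟙 _) (𝟙 _) k (Category.comp_id _) (by simp))
  let Φ : DCoh.Lpull (Spec.map φ) ⋙ (DCoh.Lpull f' ⋙ DCoh.Lpull k') ≅
      (DCoh.Lpull f ⋙ DCoh.Lpull k) ⋙ DCoh.Lpull gU :=
    (Functor.associator _ _ _).symm ≪≫ Functor.isoWhiskerRight χ _ ≪≫ Functor.associator _ _ _ ≪≫
      Functor.isoWhiskerLeft _ ψ ≪≫ (Functor.associator _ _ _).symm
  have hΦ : Φ.hom = pasteF χ.hom ψ.hom := by
    ext c
    simp [Φ, pasteF]
  have h1 : IsIso (bcApp ((lpullRpushAdj f).comp (lpullRpushAdj k))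
      ((lpullRpushAdj f').comp (lpullRpushAdj k')) Φ.hom M) :=
    hcomp _ _ _ _ _ _ _ _ ((isLp_self f).comp (isLp_self k)) ((isLp_self f').comp (isLp_self k'))
      (isLp_self _) (isLp_self gU) Φ M hM
  rw [hΦ, bcApp_pasteF] at h1
  haveI := hk B k _ k' gU hU _ _ _ _ _ _ (lpullRpushAdj k) (lpullRpushAdj k') (isLp_self k)
    (isLp_self k') (isLp_self g') (isLp_self gU) ψ M hM
  exact @IsIso.of_isIso_comp_right _ _ _ _ _ _
    ((DCoh.Rpush f').map (bcApp (lpullRpushAdj k) (lpullRpushAdj k') ψ.hom M)) inferInstance h1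

/-- Base change of separated quasi-compact morphisms. -/
theorem bc_separated {f : X ⟶ Y} {f' : X' ⟶ Y'} {g : Y' ⟶ Y} {g' : X' ⟶ X}
    (h : IsPullback g' f' f g) [QuasiCompact f] [IsSeparated f] (hTI : TI f g) : BC f f' g g' := by
  refine bc_of_local h fun A A' i _ i' _ φ hb W W' iX fV gV' fV' hW hW' => ?_
  haveI : IsOpenImmersion iX := MorphismProperty.of_isPullback hW.flip ‹IsOpenImmersion i›
  haveI : IsSeparated fV := MorphismProperty.of_isPullback hW ‹IsSeparated f›
  haveI : QuasiCompact fV := MorphismProperty.of_isPullback hW ‹QuasiCompact f›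
  haveI : W.IsSeparated := ⟨by rw [← terminal.comp_from fV]; infer_instance⟩
  refine bc_step hW' (hTI.restrict i i' iX hW.w.symm hb) fun B k _ U' k' gU hU => ?_
  haveI : IsAffineHom (k ≫ fV) := inferInstance
  haveI : IsAffineHom k := MorphismProperty.of_postcomp (W := @IsAffineHom) (W' := @IsSeparated) k fV
    inferInstance inferInstance
  exact bc_affineHom hU (ti_of_flat k gV')

/-- **Tor independent base change.** -/
theorem bc_main {f : X ⟶ Y} {f' : X' ⟶ Y'} {g : Y' ⟶ Y} {g' : X' ⟶ X}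
    (h : IsPullback g' f' f g) [QuasiCompact f] [QuasiSeparated f] (hTI : TI f g) : BC f f' g g' := by
  refine bc_of_local h fun A A' i _ i' _ φ hb W W' iX fV gV' fV' hW hW' => ?_
  haveI : IsOpenImmersion iX := MorphismProperty.of_isPullback hW.flip ‹IsOpenImmersion i›
  haveI : QuasiSeparated fV := MorphismProperty.of_isPullback hW ‹QuasiSeparated f›
  haveI : QuasiCompact fV := MorphismProperty.of_isPullback hW ‹QuasiCompact f›
  haveI : QuasiSeparatedSpace W := quasiSeparatedSpace_of_quasiSeparated fV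
  exact bc_step hW' (hTI.restrict i i' iX hW.w.symm hb) fun B k _ U' k' gU hU =>
    bc_separated hU (ti_of_flat k gV')

/-- The base change map built from any adjunctions, for a suitable identification of the composites. -/
theorem exists_baseChangeApp_iso {f : X ⟶ Y} {f' : X' ⟶ Y'} {g : Y' ⟶ Y} {g' : X' ⟶ X}
    (h : IsPullback g' f' f g) [QuasiCompact f] [QuasiSeparated f] (hTI : TI f g)
    [DCoh.HasRpush f] [DCoh.HasRpush g] [DCoh.HasLpull g] [DCoh.HasRpush f'] [DCoh.HasRpush g']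
    [DCoh.HasLpull g'] (adjg : DCoh.Lpull g ⊣ DCoh.Rpush g) (adjg' : DCoh.Lpull g' ⊣ DCoh.Rpush g') :
    ∃ e : DCoh.Rpush g' ⋙ DCoh.Rpush f ≅ DCoh.Rpush f' ⋙ DCoh.Rpush g,
      ∀ E : DCoh.D X, DCoh.IsQCohD E → IsIso (DCoh.baseChangeApp adjg adjg' e E) := by
  haveI := hasLpull f
  haveI := hasLpull f'
  obtain ⟨χ⟩ := nonempty_sq h.w (isLp_self f) (isLp_self f') (isLp_self g) (isLp_self g')
  refine ⟨conjugateIsoEquiv ((lpullRpushAdj f).comp adjg') (adjg.comp (lpullRpushAdj f')) χ, fun E hE => ?_⟩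
  rw [show DCoh.baseChangeApp adjg adjg'
      (conjugateIsoEquiv ((lpullRpushAdj f).comp adjg') (adjg.comp (lpullRpushAdj f')) χ) E =
      bcApp (lpullRpushAdj f) (lpullRpushAdj f') χ.hom E from
    (Equiv.symm_apply_eq _).2 (bcApp_eq_transpose (lpullRpushAdj f) (lpullRpushAdj f') adjg adjg' χ E).symm]
  exact bc_main h hTI _ _ _ _ _ _ _ _ (isLp_self f) (isLp_self f') (isLp_self g) (isLp_self g') χ E hE

end Groth.Agent.H16Derived.BaseChange
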