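import Groth.Agent.H7Lim.FPDescent.Noetherian
import Groth.Agent.H7Lim.DescendFlat
import Groth.Agent.H7Lim.Proper.Descend

/-!
# Noetherian models of proper flat morphisms

The same statement as `H06Conn.exists_proper_flat_model`, with light imports.
-/

open CategoryTheory CategoryTheory.Limits AlgebraicGeometry Opposite TopologicalSpace Topology

universe u

namespace Groth.Agent.H16Derived.BaseChange

set_option backward.isDefEq.respectTransparency false
set_option linter.style.haveILetI false

open Groth.Agent.H7Lim Groth.Agent.H7Lim.FPDescent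

variable {X : Scheme.{u}}

/-- A flat proper finitely presented scheme over an affine base comes from a noetherian base. -/
theorem exists_proper_flat_model {R : Type u} [CommRing R] (f : X ⟶ Spec (CommRingCat.of R)) [IsProper f] [Flat f]
    [LocallyOfFinitePresentation f] :
    ∃ (A : Subalgebra ℤ R) (X₀ : Scheme.{u}) (f₀ : X₀ ⟶ Spec (CommRingCat.of A)) (g : X ⟶ X₀),
      Algebra.FiniteType ℤ A ∧ IsProper f₀ ∧ Flat f₀ ∧ LocallyOfFinitePresentation f₀ ∧
        IsPullback g f f₀ (Spec.map (CommRingCat.ofHom A.val.toRingHom)) := by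
  let c : Cone ((subringFunctor R).op ⋙ Scheme.Spec) := Scheme.Spec.mapCone (subringCocone R).op
  have hc : IsLimit c := isLimitOfPreserves Scheme.Spec (subringIsColimit R).op
  haveI : ∀ (i j : (Finset R)ᵒᵖ) (φ : i ⟶ j), IsAffineHom (((subringFunctor R).op ⋙ Scheme.Spec).map φ) := fun i j φ =>
    inferInstanceAs (IsAffineHom (Spec.map _))
  haveI : ∀ i, IsAffine (((subringFunctor R).op ⋙ Scheme.Spec).obj i) := fun i =>
    inferInstanceAs (IsAffine (Spec _))
  haveI : ∀ i, CompactSpace (((subringFunctor R).op ⋙ Scheme.Spec).obj i) := fun i =>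
    inferInstanceAs (CompactSpace ↥(Spec _))
  haveI : ∀ i, QuasiSeparatedSpace (((subringFunctor R).op ⋙ Scheme.Spec).obj i) := fun i =>
    inferInstanceAs (QuasiSeparatedSpace ↥(Spec _))
  haveI : Nonempty (Finset R) := ⟨∅⟩
  obtain ⟨i, ⟨M⟩⟩ := exists_model hc (X := X) f
  haveI := M.compactSpace
  haveI := M.quasiSeparatedSpace
  have hP₁ : Flat (pullback.snd M.p (c.π.app i)) := by
    rw [← M.hpb.isoPullback_inv_snd]
    infer_instance
  obtain ⟨j, φ, hPj⟩ := descendsAffine_flat _ _ c hc i M.p M.lfp hP₁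
  haveI := (M.shift φ).compactSpace
  haveI := (M.shift φ).quasiSeparatedSpace
  have hP₂ : IsProper (pullback.snd (M.shift φ).p (c.π.app j)) := by
    rw [← (M.shift φ).hpb.isoPullback_inv_snd]
    infer_instance
  obtain ⟨l, ψ, hPl⟩ := descends_isProper _ _ c hc j (M.shift φ).p inferInstance hP₂
  let N := (M.shift φ).shift ψ
  refine ⟨Algebra.adjoin ℤ ((unop l : Finset R) : Set R), N.P, N.p, N.g,
    (Algebra.adjoin ℤ ((unop l : Finset R) : Set R)).fg_iff_finiteType.1 ⟨unop l, rfl⟩, hPl, ?_, N.lfp, N.hpb⟩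
  exact MorphismProperty.pullback_snd (M.shift φ).p _ hPj


end Groth.Agent.H16Derived.BaseChange
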