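import Groth.Agent.H16Derived.BaseChange.Main
import Groth.Agent.H16Derived.Thomason.Consequences
import Groth.Agent.H16Derived.QCohD.AffineReflect
import Groth.Agent.H16Derived.ProperSupp.Tensor
import Groth.Agent.H16Derived.BaseChange.Model
import Groth.Agent.H06EGA9.StructureStalk
import Groth.Agent.H10Coh.Proper

/-!
# `Rf_*` preserves perfect objects for `f` proper, flat, of finite presentation
-/

set_option autoImplicit false
set_option linter.style.haveILetI false
set_option backward.isDefEq.respectTransparency false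

universe u

open CategoryTheory CategoryTheory.Limits AlgebraicGeometry CategoryTheory.Pretriangulated

attribute [local instance] HasDerivedCategory.standard

namespace Groth.Agent.H16Derived.BaseChange

open Groth.Agent.H16Derived.KFlat Groth.Agent.H16Derived.KFlat.Stalk
open Groth.Agent.H16Derived.Thomason

attribute [local instance] hasCoproducts_D small_hom

/-- A thick class of perfect objects containing a generator contains every perfect object. -/
theorem perfect_induction {X : Scheme.{u}} [CompactSpace X] [QuasiSeparatedSpace X] (Q : DCoh.D X)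
    (hQ : DCoh.IsPerfect Q)
    (hgen : ∀ E : DCoh.D X, DCoh.IsQCohD E → (∀ (n : ℤ) (f : Q⟦n⟧ ⟶ E), f = 0) → IsZero E)
    (C : DCoh.D X → Prop) (hC : Stages (fun R => DCoh.IsPerfect R ∧ C R))
    (hshift : ∀ R (n : ℤ), DCoh.IsPerfect R → C R → C (R⟦n⟧))
    (hretract : ∀ {R P : DCoh.D X} (i : P ⟶ R) (p : R ⟶ P), i ≫ p = 𝟙 P → DCoh.IsPerfect R → C R → C P)
    (hCQ : C Q) {E : DCoh.D X} (hE : DCoh.IsPerfect E) : C E := by
  have hqc : ∀ {R : DCoh.D X}, DCoh.IsPerfect R → PQ Set.univ R := fun h =>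
    PK.pq ⟨h, suppIn_univ _⟩
  let σ := fun k : ULift.{u} ℤ => Q⟦k.down⟧
  have hg : Thomason.Good (𝟭 (DCoh.D X)) (fun R => DCoh.IsPerfect R ∧ C R) (fun t => t = E) E :=
    good_of_generated hC σ (PQ Set.univ) (loc_pq isClosed_univ) (fun _ n h => h.shift isClosed_univ n)
      (fun _ h => h) (fun R hR => holds_of_isPerfect (fun _ h => h.1) hR.1)
      (fun t ht => ht ▸ holds_of_isPerfect (fun _ h => h.1) hE)
      (fun k => ⟨(PK.shift isClosed_univ ⟨hQ, suppIn_univ _⟩ k.down).1, hshift Q k.down hQ hCQ⟩)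
      (fun R n h => ⟨(PK.shift isClosed_univ ⟨h.1, suppIn_univ _⟩ n).1, hshift R n h.1 h.2⟩)
      (fun _ h => hqc h.1)
      (fun k n => ⟨⟨k.down + n⟩, ⟨(shiftFunctorAdd (DCoh.D X) k.down n).app Q⟩⟩)
      (fun M hM h' => hgen M hM.1 fun n f => h' ⟨n⟩ f) (hqc hE)
  obtain ⟨R, ⟨hR, hCR⟩, β, x', hx⟩ := hg.surj E rfl (𝟙 E)
  exact hretract x' β hx hR hCR

/-- Perfect objects with perfect image under a triangulated functor form stages. -/
theorem stages_perfect_image {X Y : Scheme.{u}} (F : DCoh.D X ⥤ DCoh.D Y) [F.CommShift ℤ] [F.IsTriangulated] :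
    Stages (fun R => DCoh.IsPerfect R ∧ DCoh.IsPerfect (F.obj R)) where
  zero h := ⟨isPerfect_zero h, isPerfect_zero (F.map_isZero h)⟩
  of_iso e h := ⟨isPerfect_of_iso e h.1, isPerfect_of_iso (F.mapIso e) h.2⟩
  cone Tr hTr h₁ h₂ := ⟨isPerfect_obj₃ hTr h₁.1 h₂.1, isPerfect_obj₃ (F.map_distinguished _ hTr) h₁.2 h₂.2⟩
  fib Tr hTr h₂ h₃ := ⟨isPerfect_obj₁ hTr h₂.1 h₃.1, isPerfect_obj₁ (F.map_distinguished _ hTr) h₂.2 h₃.2⟩
  sum₂ K L _ hK hL := ⟨isPerfect_biprod hK.1 hL.1, by
    haveI : F.Additive := inferInstance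
    haveI : PreservesBinaryBiproduct K L F := preservesBinaryBiproduct_of_preservesBiproduct F K L
    exact isPerfect_of_iso (F.mapBiprod K L).symm (isPerfect_biprod hK.2 hL.2)⟩

variable {X S : Scheme.{u}}

/-- Over a Noetherian base. -/
theorem isPerfect_rpush_noetherian (f : X ⟶ S) [IsNoetherian S] [IsProper f] [Flat f] [DCoh.HasRpush f]
    {E : DCoh.D X} (hE : DCoh.IsPerfect E) : DCoh.IsPerfect ((DCoh.Rpush f).obj E) := by
  haveI : IsLocallyNoetherian X := LocallyOfFiniteType.isLocallyNoetherian f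
  let G : X.Modules := Coh.structureModule X
  haveI := hasLTensorMod G
  have hG : Coh.IsCoh G := H10Coh.isCoh_structureModule' X
  have hsupp : ClSub.IsProperOver f (CohB1.support G) :=
    ⟨LeadProper.isClosed_support G hG.1 hG.2, inferInstance⟩
  have h := ProperSupp.isPerfect_rpush_ltensorMod f E hE G hG (fun x => (H06EGA9.isFlatOverAt_structureModule_iff f x).2 (Flat.stalkMap f x)) hsupp
  obtain ⟨P, -, hP, ⟨eP⟩⟩ := Dual.exists_rep E
  let e : (DCoh.LTensorMod G).obj E ≅ E :=
    (DCoh.LTensorMod G).mapIso eP.symm ≪≫ ltensorModObjIso G P hP ≪≫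
      DerivedCategory.Q.mapIso ((NatIso.mapHomologicalComplex (tensorUnitModIso (X := X)) _).app P ≪≫
        (Functor.mapHomologicalComplexIdIso X.Modules (ComplexShape.up ℤ)).app P) ≪≫ eP
  exact isPerfect_of_iso ((DCoh.Rpush f).mapIso e) h

/-- Over an affine base. -/
theorem isPerfect_rpush_spec {R : CommRingCat.{u}} (f : X ⟶ Spec R) [IsProper f] [Flat f]
    [LocallyOfFinitePresentation f] [DCoh.HasRpush f] {E : DCoh.D X} (hE : DCoh.IsPerfect E) :
    DCoh.IsPerfect ((DCoh.Rpush f).obj E) := by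
  obtain ⟨A, X₀, f₀, g, hA, _, _, _, hsq⟩ := exists_proper_flat_model (R := (R : Type u)) f
  haveI := hA
  haveI : IsNoetherianRing A := Algebra.FiniteType.isNoetherianRing ℤ _
  let γ : Spec R ⟶ Spec (CommRingCat.of A) := Spec.map (CommRingCat.ofHom A.val.toRingHom)
  haveI : IsNoetherian (Spec (CommRingCat.of A)) := inferInstance
  haveI : CompactSpace X₀ := QuasiCompact.compactSpace_of_compactSpace f₀
  haveI : QuasiSeparatedSpace X₀ := quasiSeparatedSpace_of_quasiSeparated f₀
  haveI : CompactSpace X := QuasiCompact.compactSpace_of_compactSpace f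
  haveI : QuasiSeparatedSpace X := quasiSeparatedSpace_of_quasiSeparated f
  haveI : IsAffineHom g := MorphismProperty.of_isPullback hsq.flip (inferInstanceAs (IsAffineHom γ))
  obtain ⟨Q₀, hQ₀, hgen₀⟩ := hasGen (X := X₀) Set.univ isClosed_univ (by simp)
  haveI := hasLpull g
  haveI := QCohD.hasRpush g
  haveI := hasLpull γ
  haveI := hasLpull f
  haveI := hasLpull f₀
  haveI := QCohD.hasRpush f₀
  letI := rpushCommShift f
  haveI := rpush_isTriangulated f
  letI := lpullCommShift g
  haveI := lpull_isTriangulated g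
  refine perfect_induction ((DCoh.Lpull g).obj Q₀) (isPerfect_lpull g hQ₀.1) (fun M hM h0 => ?_)
    (fun R => DCoh.IsPerfect ((DCoh.Rpush f).obj R)) (stages_perfect_image (DCoh.Rpush f))
    (fun R n _ hR => isPerfect_of_iso (((DCoh.Rpush f).commShiftIso n).app R).symm
      (PK.shift isClosed_univ ⟨hR, suppIn_univ _⟩ n).1)
    (fun i p hip _ hR => isPerfect_of_retract' ((DCoh.Rpush f).map i) ((DCoh.Rpush f).map p)
      (by rw [← Functor.map_comp, hip, CategoryTheory.Functor.map_id]) hR) ?_ hE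
  · refine QCohD.AffineUnit.isZero_of_rpush g M hM (hgen₀ _ ⟨QCohD.isQCohD_rpush g hM, suppIn_univ _⟩ fun n t => ?_)
    let a := lpullRpushAdj g
    have h1 : (((DCoh.Lpull g).commShiftIso n).inv.app Q₀) ≫ (a.homEquiv _ _).symm t = 0 := h0 n _
    apply (a.homEquiv _ _).symm.injective
    rw [← cancel_epi (((DCoh.Lpull g).commShiftIso n).inv.app Q₀), h1, Adjunction.homEquiv_counit,
      Functor.map_zero, zero_comp, comp_zero]
  · obtain ⟨χ⟩ := nonempty_sq hsq.w (isLp_self f₀) (isLp_self f) (isLp_self γ) (isLp_self g)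
    haveI := bc_main hsq (ti_of_flat f₀ γ) _ _ _ _ _ _ (lpullRpushAdj f₀) (lpullRpushAdj f) (isLp_self f₀)
      (isLp_self f) (isLp_self γ) (isLp_self g) χ Q₀ (PK.pq hQ₀).1
    exact isPerfect_of_iso (asIso (bcApp (lpullRpushAdj f₀) (lpullRpushAdj f) χ.hom Q₀))
      (isPerfect_lpull γ (isPerfect_rpush_noetherian f₀ hQ₀.1))

/-- **Direct images of perfect objects.** -/
theorem isPerfect_rpush (f : X ⟶ S) [IsProper f] [Flat f] [LocallyOfFinitePresentation f]
    [DCoh.HasRpush f] {E : DCoh.D X} (hE : DCoh.IsPerfect E) :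
    DCoh.IsPerfect ((DCoh.Rpush f).obj E) := by
  refine isPerfect_of_rd fun s => ?_
  obtain ⟨_, ⟨V, hV : IsAffineOpen V, rfl⟩, hsV, -⟩ :=
    S.isBasis_affineOpens.exists_subset_of_mem_open (Set.mem_univ s) isOpen_univ
  refine ⟨(V : S.Opens), hsV, ?_⟩
  let i := hV.fromSpec
  let hW := IsPullback.of_hasPullback f i
  haveI := hasLpull f
  haveI := hasLpull i
  haveI := hasLpull (pullback.fst f i)
  haveI := hasLpull (pullback.snd f i)
  haveI := QCohD.hasRpush (pullback.snd f i)
  obtain ⟨χ⟩ := nonempty_sq hW.w (isLp_self f) (isLp_self (pullback.snd f i)) (isLp_self i)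
    (isLp_self (pullback.fst f i))
  haveI := isIso_bcApp_openImmersion hW χ E
  obtain ⟨e⟩ := QCohD.lpull_openImmersion i ((DCoh.Rpush f).obj E)
  have h1 : DCoh.IsPerfect ((rd i).obj ((DCoh.Rpush f).obj E)) :=
    isPerfect_of_iso ((asIso (bcApp (lpullRpushAdj f) (lpullRpushAdj (pullback.snd f i)) χ.hom E)).symm ≪≫ e)
      (isPerfect_rpush_spec (pullback.snd f i) (isPerfect_lpull (pullback.fst f i) hE))
  exact isPerfect_of_iso (rdComp hV.isoSpec.hom i (Scheme.Opens.ι V) hV.isoSpec_hom_fromSpec _).symm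
    (isPerfect_rd hV.isoSpec.hom h1)

end Groth.Agent.H16Derived.BaseChange
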