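import Groth.Agent.H16Derived.QCohD.Lpull
import Groth.Agent.H16Derived.QCohD.AffineUnit
import Groth.Agent.H8Props.RelPCRing
import Groth.Agent.H26Tor.BaseChange
import Groth.Agent.H16Derived.AcyclicLES
import Mathlib.CategoryTheory.Abelian.Projective.Extend
import Mathlib.Algebra.Homology.Single
import Mathlib.Algebra.Homology.DerivedCategory.FullyFaithful

/-!
# Derived pullback and derived direct image of a single module on affine schemes
-/

set_option autoImplicit false
set_option linter.style.haveILetI false

universe u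

open CategoryTheory CategoryTheory.Limits AlgebraicGeometry

attribute [local instance] HasDerivedCategory.standard

namespace Groth.Agent.H16Derived.BaseChange

open Groth.Agent.H16Derived.KFlat Groth.Agent.H16Derived.KFlat.Stalk Groth.Agent.H4DR.TorAmp
  Groth.Agent.H16Derived.QCohD

section Transf

variable {X Y : Scheme.{u}} (f : X ⟶ Y)

/-- The comparison of `Lf^*` with the termwise pullback. -/
noncomputable def κ [DCoh.HasLpull f] :
    DerivedCategory.Q ⋙ DCoh.Lpull f ⟶
      (Scheme.Modules.pullback f).mapHomologicalComplex (ComplexShape.up ℤ) ⋙ DerivedCategory.Q :=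
  Functor.whiskerRight (DerivedCategory.quotientCompQhIso Y.Modules).inv (DCoh.Lpull f) ≫
    (Functor.associator _ _ _).hom ≫
    Functor.whiskerLeft (HomotopyCategory.quotient Y.Modules (ComplexShape.up ℤ)) (lpullCounit f) ≫
    (Functor.associator _ _ _).inv ≫
    Functor.whiskerRight ((Scheme.Modules.pullback f).mapHomotopyCategoryFactors (ComplexShape.up ℤ)).hom
      DerivedCategory.Qh ≫
    (Functor.associator _ _ _).hom ≫
    Functor.whiskerLeft _ (DerivedCategory.quotientCompQhIso X.Modules).hom

theorem isIso_κ [DCoh.HasLpull f] (K : CochainComplex Y.Modules ℤ)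
    (hK : IsKFlat (DCoh.tensorBi (X := Y)) K) : IsIso ((κ f).app K) := by
  haveI := isIso_Lpull_counit f K hK
  simp only [κ, NatTrans.comp_app, Functor.associator_hom_app, Functor.associator_inv_app,
    Functor.whiskerRight_app, Functor.whiskerLeft_app]
  infer_instance

/-- The comparison of the termwise direct image with `Rf_*`. -/
noncomputable def υ [DCoh.HasRpush f] :
    (Scheme.Modules.pushforward f).mapHomologicalComplex (ComplexShape.up ℤ) ⋙ DerivedCategory.Q ⟶
      DerivedCategory.Q ⋙ DCoh.Rpush f :=
  Functor.whiskerLeft _ (DerivedCategory.quotientCompQhIso Y.Modules).inv ≫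
    (Functor.associator _ _ _).inv ≫
    Functor.whiskerRight ((Scheme.Modules.pushforward f).mapHomotopyCategoryFactors (ComplexShape.up ℤ)).inv
      DerivedCategory.Qh ≫
    (Functor.associator _ _ _).hom ≫
    Functor.whiskerLeft (HomotopyCategory.quotient X.Modules (ComplexShape.up ℤ)) (rpushUnit f) ≫
    (Functor.associator _ _ _).inv ≫
    Functor.whiskerRight (DerivedCategory.quotientCompQhIso X.Modules).hom (DCoh.Rpush f)

theorem isIso_υ [DCoh.HasRpush f] [IsAffineHom f] (F : CochainComplex X.Modules ℤ)
    (hF : ∀ i, Coh.IsQCoh (F.X i)) : IsIso ((υ f).app F) := by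
  haveI := AffineUnit.isIso_rpushUnit_qcoh f F hF
  simp only [υ, NatTrans.comp_app, Functor.associator_hom_app, Functor.associator_inv_app,
    Functor.whiskerRight_app, Functor.whiskerLeft_app]
  infer_instance

end Transf

variable {A B : Type u} [CommRing A] [CommRing B]

/-- A module, as an object of the derived category of the affine scheme. -/
noncomputable abbrev T₀ (A : Type u) [CommRing A] :
    ModuleCat.{u} A ⥤ DCoh.D (Spec (CommRingCat.of A)) :=
  CochainComplex.singleFunctor (ModuleCat.{u} A) 0 ⋙ (tf A).mapHomologicalComplex (ComplexShape.up ℤ) ⋙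
    DerivedCategory.Q

/-- The same, by the single functor. -/
noncomputable def T₀Iso (A : Type u) [CommRing A] :
    T₀ A ≅ tf A ⋙ DerivedCategory.singleFunctor _ 0 :=
  (Functor.associator _ _ _).symm ≪≫
    Functor.isoWhiskerRight (HomologicalComplex.singleMapHomologicalComplex (tf A) (ComplexShape.up ℤ) 0)
      DerivedCategory.Q ≪≫
    Functor.associator _ _ _ ≪≫
    Functor.isoWhiskerLeft _ (DerivedCategory.singleFunctorIsoCompQ _ 0).symm

instance : (T₀ A).Full :=
  haveI : (tf A).Full := (tilde.fullyFaithfulFunctor (R := CommRingCat.of A)).full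
  Functor.Full.of_iso (T₀Iso A).symm
instance : (T₀ A).Faithful :=
  haveI : (tf A).Faithful := (tilde.fullyFaithfulFunctor (R := CommRingCat.of A)).faithful
  Functor.Faithful.of_iso (T₀Iso A).symm

variable (φ : A →+* B)

/-- Direct image of tilde, on complexes. -/
noncomputable def pushTildeCxIso :
    (tf B).mapHomologicalComplex (ComplexShape.up ℤ) ⋙
        (Scheme.Modules.pushforward (Spec.map (CommRingCat.ofHom φ))).mapHomologicalComplex (ComplexShape.up ℤ) ≅
      (ModuleCat.restrictScalars.{u} φ).mapHomologicalComplex (ComplexShape.up ℤ) ⋙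
        (tf A).mapHomologicalComplex (ComplexShape.up ℤ) :=
  NatIso.ofComponents (fun P => HomologicalComplex.Hom.isoOfComponents
    (fun i => (H8Props.RelPC.tildePushIso (CommRingCat.ofHom φ)).app (P.X i))
    fun i j _ => ((H8Props.RelPC.tildePushIso (CommRingCat.ofHom φ)).hom.naturality (P.d i j)).symm)
    fun {P P'} g => by
      refine HomologicalComplex.hom_ext _ _ fun i => ?_
      exact (H8Props.RelPC.tildePushIso (CommRingCat.ofHom φ)).hom.naturality (g.f i)

/-- Derived pullback of a module maps to the underived one. -/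
noncomputable def Θ₀ [DCoh.HasLpull (Spec.map (CommRingCat.ofHom φ))] :
    T₀ A ⋙ DCoh.Lpull (Spec.map (CommRingCat.ofHom φ)) ⟶ ModuleCat.extendScalars.{u, u, u} φ ⋙ T₀ B :=
  Functor.whiskerLeft (CochainComplex.singleFunctor (ModuleCat.{u} A) 0 ⋙
      (tf A).mapHomologicalComplex (ComplexShape.up ℤ)) (κ (Spec.map (CommRingCat.ofHom φ))) ≫
    Functor.whiskerLeft (CochainComplex.singleFunctor (ModuleCat.{u} A) 0)
      (Functor.whiskerRight (pullTildeCxIso φ).hom DerivedCategory.Q) ≫
    Functor.whiskerRight (HomologicalComplex.singleMapHomologicalComplex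
      (ModuleCat.extendScalars.{u, u, u} φ) (ComplexShape.up ℤ) 0).hom
      ((tf B).mapHomologicalComplex (ComplexShape.up ℤ) ⋙ DerivedCategory.Q)

/-- Derived direct image of a module is the underived one. -/
noncomputable def Ψ₀ [DCoh.HasRpush (Spec.map (CommRingCat.ofHom φ))] :
    ModuleCat.restrictScalars.{u} φ ⋙ T₀ A ⟶ T₀ B ⋙ DCoh.Rpush (Spec.map (CommRingCat.ofHom φ)) :=
  Functor.whiskerRight (HomologicalComplex.singleMapHomologicalComplex
      (ModuleCat.restrictScalars.{u} φ) (ComplexShape.up ℤ) 0).inv
      ((tf A).mapHomologicalComplex (ComplexShape.up ℤ) ⋙ DerivedCategory.Q) ≫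
    Functor.whiskerLeft (CochainComplex.singleFunctor (ModuleCat.{u} B) 0)
      (Functor.whiskerRight (pushTildeCxIso φ).inv DerivedCategory.Q) ≫
    Functor.whiskerLeft (CochainComplex.singleFunctor (ModuleCat.{u} B) 0 ⋙
      (tf B).mapHomologicalComplex (ComplexShape.up ℤ)) (υ (Spec.map (CommRingCat.ofHom φ)))

theorem isIso_Ψ₀ [DCoh.HasRpush (Spec.map (CommRingCat.ofHom φ))] : IsIso (Ψ₀ φ) := by
  haveI : ∀ N, IsIso ((Ψ₀ φ).app N) := fun N => by
    haveI := isIso_υ (Spec.map (CommRingCat.ofHom φ))
      (((tf B).mapHomologicalComplex (ComplexShape.up ℤ)).obj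
        ((CochainComplex.singleFunctor (ModuleCat.{u} B) 0).obj N))
      (fun i => isQCoh_tilde_X (R := CommRingCat.of B) _ i)
    simp only [Ψ₀, NatTrans.comp_app, Functor.whiskerRight_app, Functor.whiskerLeft_app]
    refine @IsIso.comp_isIso _ _ _ _ _ _ _ ?_ (@IsIso.comp_isIso _ _ _ _ _ _ _ ?_ ?_)
    · exact Functor.map_isIso _ ((HomologicalComplex.singleMapHomologicalComplex
        (ModuleCat.restrictScalars.{u} φ) (ComplexShape.up ℤ) 0).inv.app N)
    · exact (DerivedCategory.Q.mapIso ((pushTildeCxIso φ).symm.app _)).isIso_hom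
    · assumption
  exact NatIso.isIso_of_isIso_app _

/-- Extension by zero commutes with an additive functor, for projective resolutions. -/
noncomputable def mapExtendIso {C D : Type*} [Category C] [Abelian C] [Category D] [Abelian D]
    (F : C ⥤ D) [F.Additive] {N : C} (R : ProjectiveResolution N) :
    (F.mapHomologicalComplex (ComplexShape.up ℤ)).obj R.cochainComplex ≅
      ((F.mapHomologicalComplex (ComplexShape.down ℕ)).obj R.complex).extend
        ComplexShape.embeddingDownNat :=
  HomologicalComplex.Hom.isoOfComponents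
    (fun i => if h : i ≤ 0 then
        F.mapIso (R.cochainComplexXIso i (-i).toNat (by omega)) ≪≫
          (HomologicalComplex.extendXIso ((F.mapHomologicalComplex (ComplexShape.down ℕ)).obj R.complex)
            ComplexShape.embeddingDownNat (i := (-i).toNat) (by simp; omega)).symm
      else IsZero.iso (F.map_isZero (CochainComplex.isZero_of_isStrictlyLE R.cochainComplex 0 _ (by omega)))
        (HomologicalComplex.isZero_extend_X _ _ _ (fun k => by simp; omega)))
    (fun i j (hij : i + 1 = j) => by
      by_cases hj : j ≤ 0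
      · rw [dif_pos (show i ≤ 0 by omega), dif_pos hj]
        simp only [Iso.trans_hom, Iso.symm_hom, Functor.mapIso_hom, Functor.mapHomologicalComplex_obj_d,
          Category.assoc]
        erw [HomologicalComplex.extend_d_eq ((F.mapHomologicalComplex (ComplexShape.down ℕ)).obj R.complex)
          ComplexShape.embeddingDownNat (i := (-i).toNat) (j := (-j).toNat)
          (show -((-i).toNat : ℤ) = i by omega) (show -((-j).toNat : ℤ) = j by omega)]
        rw [R.cochainComplex_d i j (-i).toNat (-j).toNat (by omega) (by omega)]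
        simp only [Functor.map_comp, Functor.mapHomologicalComplex_obj_d]
        erw [Iso.inv_hom_id_assoc]
        exact AcyclicLES.comp_cancel _ _ _ _ _ ((F.map_comp _ _).symm.trans ((congrArg F.map
          (R.cochainComplexXIso j _ (by omega)).inv_hom_id).trans (F.map_id _)))
      · exact IsZero.eq_of_tgt (HomologicalComplex.isZero_extend_X _ _ _ (fun k => by simp; omega)) _ _)

lemma map_cancel {C D : Type*} [Category C] [Category D] (G : C ⥤ D) {U V N S : C} (a : U ⟶ V)
    (b : V ⟶ N) (t : S ≅ N) {W : D} (s : G.obj N ⟶ W) :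
    G.map a ≫ G.map b ≫ s = G.map (a ≫ b ≫ t.inv) ≫ G.map t.hom ≫ s := by
  rw [← G.map_comp_assoc, ← G.map_comp_assoc, Category.assoc, Category.assoc, t.inv_hom_id,
    Category.comp_id]

/-- Extending scalars keeps a projective resolution a resolution when the higher `Tor` vanish. -/
theorem quasiIso_extend_π' [Algebra A B] (N : ModuleCat.{u} A) (R : ProjectiveResolution N)
    (htor : ∀ p : ℕ, 0 < p → Subsingleton (DRing.Tor A p B N)) :
    QuasiIso (((ModuleCat.extendScalars.{u, u, u} (algebraMap A B)).mapHomologicalComplex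
      (ComplexShape.up ℤ)).map R.π') := by
  let G := ModuleCat.extendScalars.{u, u, u} (algebraMap A B)
  haveI : PreservesFiniteColimits G :=
    @PreservesColimitsOfSize.preservesFiniteColimits.{0, 0} _ _ _ _ _
      ((ModuleCat.extendRestrictScalarsAdj.{u, u, u} (algebraMap A B)).leftAdjoint_preservesColimits)
  let P := H26Tor.mapResolution G R (fun n => H26Tor.projective_extendScalars _) fun n =>
    H26Tor.exactAt_extendScalars R.complex n (by
      haveI := htor (n + 1) n.succ_pos
      rw [HomologicalComplex.exactAt_iff_isZero_homology]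
      exact (ModuleCat.isZero_of_subsingleton (((Tor (ModuleCat.{u} A) (n + 1)).obj (ModuleCat.of A B)).obj N)).of_iso
        (R.isoLeftDerivedObj ((MonoidalCategory.tensoringLeft (ModuleCat.{u} A)).obj (ModuleCat.of A B)) (n + 1)).symm)
  have h : (mapExtendIso G R).hom ≫ P.π' =
      (G.mapHomologicalComplex (ComplexShape.up ℤ)).map R.π' ≫
        ((HomologicalComplex.singleMapHomologicalComplex G (ComplexShape.up ℤ) 0).app N).hom := by
    refine HomologicalComplex.to_single_hom_ext ?_
    simp only [HomologicalComplex.comp_f, Iso.app_hom, Functor.mapHomologicalComplex_map_f,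
      HomologicalComplex.singleMapHomologicalComplex_hom_app_self]
    erw [P.π'_f_zero, R.π'_f_zero]
    simp [mapExtendIso, P, H26Tor.mapResolution, ProjectiveResolution.cochainComplexXIso]
    erw [Iso.inv_hom_id_assoc]
    exact map_cancel G _ _ (HomologicalComplex.singleObjXSelf (ComplexShape.up ℤ) 0 N) _
  rw [show (G.mapHomologicalComplex (ComplexShape.up ℤ)).map R.π' = ((mapExtendIso G R).hom ≫ P.π') ≫
    ((HomologicalComplex.singleMapHomologicalComplex G (ComplexShape.up ℤ) 0).app N).inv from
      (Iso.eq_comp_inv _).2 h.symm]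
  haveI : QuasiIso (mapExtendIso G R).hom := inferInstance
  have hP' : QuasiIso P.π' := by
    haveI := P.quasiIso
    dsimp [ProjectiveResolution.π']
    haveI : QuasiIso ((ComplexShape.embeddingDownNat.extendFunctor (ModuleCat.{u} B)).map P.π) :=
      (HomologicalComplex.quasiIso_extendMap_iff P.π _).2 inferInstance
    rw [quasiIso_iff]
    intro i
    have h1 := (quasiIso_iff_comp_right ((ComplexShape.embeddingDownNat.extendFunctor (ModuleCat.{u} B)).map P.π)
      (HomologicalComplex.extendSingleIso ComplexShape.embeddingDownNat (G.obj N) 0 0 (by simp)).hom).2 this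
    exact h1.quasiIsoAt i
  exact (quasiIso_iff_comp_right _ _).2 ((quasiIso_iff_comp_left _ _).2 hP')

/-- Derived pullback of a Tor independent module is the underived one. -/
theorem isIso_Θ₀ [Algebra A B] [DCoh.HasLpull (Spec.map (CommRingCat.ofHom (algebraMap A B)))]
    (N : ModuleCat.{u} A) (htor : ∀ p : ℕ, 0 < p → Subsingleton (DRing.Tor A p B N)) :
    IsIso ((Θ₀ (algebraMap A B)).app N) := by
  let f := Spec.map (CommRingCat.ofHom (algebraMap A B))
  obtain ⟨R⟩ : Nonempty (ProjectiveResolution N) := HasProjectiveResolution.out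
  haveI hq := quasiIso_extend_π' N R htor
  let C := R.cochainComplex
  have hkf : kflat (Spec (CommRingCat.of A)) (tfCx C) := kflat_tilde
    (isKFlat_of_flat (c := 0) (fun i hi => CochainComplex.isZero_of_isStrictlyLE C 0 i (by omega))
      fun i => Module.Flat.of_projective)
  haveI : IsIso ((κ f).app (tfCx C)) := isIso_κ f _ hkf
  let r : tfCx C ⟶ tfCx ((CochainComplex.singleFunctor (ModuleCat.{u} A) 0).obj N) :=
    ((tf A).mapHomologicalComplex (ComplexShape.up ℤ)).map R.π'
  haveI : PreservesFiniteColimits (tf A) :=
    @PreservesColimitsOfSize.preservesFiniteColimits.{0, 0} _ _ _ _ _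
      ((tilde.adjunction (R := CommRingCat.of A)).leftAdjoint_preservesColimits)
  haveI : PreservesFiniteColimits (tf B) :=
    @PreservesColimitsOfSize.preservesFiniteColimits.{0, 0} _ _ _ _ _
      ((tilde.adjunction (R := CommRingCat.of B)).leftAdjoint_preservesColimits)
  haveI : QuasiIso r := inferInstance
  have hp : QuasiIso (((Scheme.Modules.pullback f).mapHomologicalComplex (ComplexShape.up ℤ)).map r) := by
    rw [show ((Scheme.Modules.pullback f).mapHomologicalComplex (ComplexShape.up ℤ)).map r =
      (pullTildeCxIso (algebraMap A B)).hom.app C ≫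
        ((tf B).mapHomologicalComplex (ComplexShape.up ℤ)).map
          (((ModuleCat.extendScalars.{u, u, u} (algebraMap A B)).mapHomologicalComplex
            (ComplexShape.up ℤ)).map R.π') ≫ (pullTildeCxIso (algebraMap A B)).inv.app _ from
      (NatIso.naturality_2 (pullTildeCxIso (algebraMap A B)) R.π').symm]
    infer_instance
  haveI : IsIso ((κ f).app (tfCx ((CochainComplex.singleFunctor (ModuleCat.{u} A) 0).obj N))) := by
    rw [show (κ f).app (tfCx ((CochainComplex.singleFunctor (ModuleCat.{u} A) 0).obj N)) =
      inv ((DCoh.Lpull f).map (DerivedCategory.Q.map r)) ≫ (κ f).app (tfCx C) ≫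
        DerivedCategory.Q.map (((Scheme.Modules.pullback f).mapHomologicalComplex (ComplexShape.up ℤ)).map r)
      from (IsIso.eq_inv_comp _).2 ((κ f).naturality r)]
    infer_instance
  simp only [Θ₀, NatTrans.comp_app, Functor.whiskerRight_app, Functor.whiskerLeft_app]
  refine @IsIso.comp_isIso _ _ _ _ _ _ _ ?_ (@IsIso.comp_isIso _ _ _ _ _ _ _ ?_ ?_)
  · assumption
  · exact (DerivedCategory.Q.mapIso ((pullTildeCxIso (algebraMap A B)).app _)).isIso_hom
  · exact Functor.map_isIso _ ((HomologicalComplex.singleMapHomologicalComplex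
      (ModuleCat.extendScalars.{u, u, u} (algebraMap A B)) (ComplexShape.up ℤ) 0).hom.app N)

end Groth.Agent.H16Derived.BaseChange
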