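import Groth.Agent.H16Derived.BaseChange.Mates
import Groth.Agent.H16Derived.QCohD.RpushUnb
import Groth.Agent.H16Derived.Thomason.Supp
import Groth.Agent.H16Derived.MVPush.Support

/-!
# Base change squares in derived categories of sheaves of modules
-/

set_option autoImplicit false
set_option linter.style.haveILetI false

universe u

open CategoryTheory CategoryTheory.Limits AlgebraicGeometry CategoryTheory.Pretriangulated
  CategoryTheory.Functor

attribute [local instance] HasDerivedCategory.standard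

namespace Groth.Agent.H16Derived.BaseChange

open Groth.Agent.H16Derived.KFlat Groth.Agent.H16Derived.KFlat.Stalk

variable {X Y X' Y' Z : Scheme.{u}}

/-- `F` is a derived pullback along `f`. -/
def IsLp (f : X ⟶ Y) (F : DCoh.D Y ⥤ DCoh.D X) : Prop :=
  Nonempty (F ≅ @DCoh.Lpull _ _ f (hasLpull f))

theorem isLp_self (f : X ⟶ Y) [DCoh.HasLpull f] : IsLp f (DCoh.Lpull f) := ⟨Iso.refl _⟩

theorem IsLp.congr {f f' : X ⟶ Y} (h : f = f') {F : DCoh.D Y ⥤ DCoh.D X} (hF : IsLp f F) :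
    IsLp f' F := h ▸ hF

theorem IsLp.comp {f : X ⟶ Y} {F : DCoh.D Y ⥤ DCoh.D X} (hF : IsLp f F) {k : Z ⟶ X}
    {K : DCoh.D X ⥤ DCoh.D Z} (hK : IsLp k K) : IsLp (k ≫ f) (F ⋙ K) := by
  haveI := hasLpull (k ≫ f)
  haveI := hasLpull f
  haveI := hasLpull k
  obtain ⟨a⟩ := hF
  obtain ⟨b⟩ := hK
  obtain ⟨c⟩ := nonempty_lpullCompIso k f
  exact ⟨isoWhiskerRight a K ≪≫ isoWhiskerLeft _ b ≪≫ c⟩

theorem IsLp.unique {f : X ⟶ Y} {F F₀ : DCoh.D Y ⥤ DCoh.D X} (hF : IsLp f F) (h₀ : IsLp f F₀) :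
    Nonempty (F₀ ≅ F) := by
  haveI := hasLpull f
  obtain ⟨a⟩ := hF
  obtain ⟨b⟩ := h₀
  exact ⟨b ≪≫ a.symm⟩

/-- A square of derived pullbacks attached to a commutative square. -/
theorem nonempty_sq {f : X ⟶ Y} {f' : X' ⟶ Y'} {g : Y' ⟶ Y} {g' : X' ⟶ X} (w : g' ≫ f = f' ≫ g)
    {F : DCoh.D Y ⥤ DCoh.D X} {F' : DCoh.D Y' ⥤ DCoh.D X'} {G : DCoh.D Y ⥤ DCoh.D Y'}
    {G' : DCoh.D X ⥤ DCoh.D X'} (hF : IsLp f F) (hF' : IsLp f' F') (hG : IsLp g G) (hG' : IsLp g' G') :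
    Nonempty (G ⋙ F' ≅ F ⋙ G') :=
  IsLp.unique (hF.comp hG') ((hG.comp hF').congr w.symm)

/-- Base change holds for a square: every natural identification of the derived pullbacks has an
invertible mate on `D_QCoh`. -/
def BC (f : X ⟶ Y) (f' : X' ⟶ Y') (g : Y' ⟶ Y) (g' : X' ⟶ X) : Prop :=
  ∀ (F : DCoh.D Y ⥤ DCoh.D X) (R : DCoh.D X ⥤ DCoh.D Y) (F' : DCoh.D Y' ⥤ DCoh.D X')
    (R' : DCoh.D X' ⥤ DCoh.D Y') (G : DCoh.D Y ⥤ DCoh.D Y') (G' : DCoh.D X ⥤ DCoh.D X')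
    (adj : F ⊣ R) (adj' : F' ⊣ R'), IsLp f F → IsLp f' F' → IsLp g G → IsLp g' G' →
    ∀ (φ : G ⋙ F' ≅ F ⋙ G') (E : DCoh.D X), DCoh.IsQCohD E → IsIso (bcApp adj adj' φ.hom E)

/-- It is enough to treat the canonical functors. -/
theorem bc_of_can {f : X ⟶ Y} {f' : X' ⟶ Y'} {g : Y' ⟶ Y} {g' : X' ⟶ X}
    [DCoh.HasLpull f] [DCoh.HasRpush f] [DCoh.HasLpull f'] [DCoh.HasRpush f'] [DCoh.HasLpull g]
    [DCoh.HasLpull g']
    (h : ∀ (φ : DCoh.Lpull g ⋙ DCoh.Lpull f' ≅ DCoh.Lpull f ⋙ DCoh.Lpull g') (E : DCoh.D X),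
      DCoh.IsQCohD E → IsIso (bcApp (lpullRpushAdj f) (lpullRpushAdj f') φ.hom E)) :
    BC f f' g g' := by
  intro F R F' R' G G' adj adj' hF hF' hG hG' φ E hE
  obtain ⟨i⟩ := hF.unique (isLp_self f)
  obtain ⟨i'⟩ := hF'.unique (isLp_self f')
  obtain ⟨j⟩ := hG.unique (isLp_self g)
  obtain ⟨k⟩ := hG'.unique (isLp_self g')
  refine (isIso_bcApp_transport adj adj' φ.hom (lpullRpushAdj f) (lpullRpushAdj f') i i' j k E).1 ?_
  exact h (isoWhiskerRight j _ ≪≫ isoWhiskerLeft G i' ≪≫ φ ≪≫ isoWhiskerRight i.symm G' ≪≫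
    isoWhiskerLeft _ k.symm) E hE

section Zero

/-- Vanishing of restrictions passes to smaller charts. -/
theorem isZero_rd_of_factor {U U₂ : Scheme.{u}} (k : U₂ ⟶ U) (i : U ⟶ X) (l : U₂ ⟶ X)
    [IsOpenImmersion k] [IsOpenImmersion i] [IsOpenImmersion l] (h : k ≫ i = l) {C : DCoh.D X}
    (hC : IsZero ((rd i).obj C)) : IsZero ((rd l).obj C) :=
  ((rd k).map_isZero hC).of_iso (rdComp k i l h C)

theorem isZero_lpull_iff {U : Scheme.{u}} (i : U ⟶ X) [IsOpenImmersion i] [DCoh.HasLpull i]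
    (C : DCoh.D X) : IsZero ((DCoh.Lpull i).obj C) ↔ IsZero ((rd i).obj C) := by
  obtain ⟨e⟩ := QCohD.lpull_openImmersion i C
  exact e.isZero_iff

/-- Vanishing is local. -/
theorem isZero_of_cover {C : DCoh.D X}
    (h : ∀ x : X, ∃ V : X.Opens, x ∈ V ∧ IsZero ((rd V.ι).obj C)) : IsZero C := by
  refine MVPush.isZero_of_hd _ fun i => H17.FPExt.isZero_of_stalk _ fun x => ?_
  obtain ⟨V, hx, hV⟩ := h x
  obtain ⟨e⟩ := MVPush.nonempty_hd_restrict_iso V C i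
  have h0 : IsZero ((Scheme.Modules.restrictFunctor V.ι).obj (DCoh.HD C i)) :=
    (Functor.map_isZero (DerivedCategory.homologyFunctor _ i) hV).of_iso e.symm
  by_contra hc
  exact (MVPush.mem_support_restrict V (DCoh.HD C i) ⟨x, hx⟩).2 hc (AddCommGrpCat.subsingleton_of_isZero
    (Functor.map_isZero (Scheme.Modules.toPresheaf (V : Scheme.{u}) ⋙
      TopCat.Presheaf.stalkFunctor AddCommGrpCat.{u} (⟨x, hx⟩ : (V : Scheme.{u}))) h0))

end Zero

section OpenBC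

variable {i : Y' ⟶ Y} [IsOpenImmersion i] {f : X ⟶ Y} {f' : X' ⟶ Y'} {i' : X' ⟶ X}

theorem isIso_counit_of_openImmersion {U : Scheme.{u}} (j : U ⟶ X) [IsOpenImmersion j]
    {L : DCoh.D X ⥤ DCoh.D U} [DCoh.HasRpush j] (a : L ⊣ DCoh.Rpush j) : IsIso a.counit := by
  haveI := Thomason.isIso_restrictRpushAdj_counit j
  haveI := (Thomason.restrictRpushAdj j).fullyFaithfulROfIsIsoCounit.full
  haveI := (Thomason.restrictRpushAdj j).fullyFaithfulROfIsIsoCounit.faithful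
  infer_instance

/-- Restriction to opens commutes with direct images, for all objects. -/
theorem isIso_bcApp_openImmersion (h : IsPullback i' f' f i) [DCoh.HasLpull f] [DCoh.HasRpush f]
    [DCoh.HasLpull f'] [DCoh.HasRpush f'] [DCoh.HasLpull i] [DCoh.HasLpull i']
    (φ : DCoh.Lpull i ⋙ DCoh.Lpull f' ≅ DCoh.Lpull f ⋙ DCoh.Lpull i') (E : DCoh.D X) :
    IsIso (bcApp (lpullRpushAdj f) (lpullRpushAdj f') φ.hom E) := by
  haveI : IsOpenImmersion i' := MorphismProperty.of_isPullback h.flip ‹IsOpenImmersion i›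
  haveI := QCohD.hasRpush i
  haveI := QCohD.hasRpush i'
  let a := lpullRpushAdj i
  let a' := lpullRpushAdj i'
  haveI := isIso_counit_of_openImmersion i a
  haveI := isIso_counit_of_openImmersion i' a'
  letI := lpullCommShift i
  haveI := lpull_isTriangulated i
  letI := lpullCommShift i'
  haveI := lpull_isTriangulated i'
  letI := rpushCommShift f
  haveI := rpush_isTriangulated f
  have hη : IsIso ((DCoh.Lpull i').map (a'.unit.app E)) := by
    haveI : IsIso ((DCoh.Lpull i').map (a'.unit.app E) ≫ a'.counit.app ((DCoh.Lpull i').obj E)) := by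
      erw [a'.left_triangle_components]; exact inferInstanceAs (IsIso (𝟙 ((DCoh.Lpull i').obj E)))
    exact IsIso.of_isIso_comp_right _ (a'.counit.app ((DCoh.Lpull i').obj E))
  obtain ⟨C, p, q, hT⟩ := distinguished_cocone_triangle (a'.unit.app E)
  have hC : IsZero ((DCoh.Lpull i').obj C) :=
    (Triangle.isZero₃_iff_isIso₁ _ ((DCoh.Lpull i').map_distinguished _ hT)).2 hη
  have hz : IsZero ((DCoh.Lpull i).obj ((DCoh.Rpush f).obj C)) := by
    rw [isZero_lpull_iff] at hC ⊢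
    let V := i.opensRange
    let τ : (f ⁻¹ᵁ V : Scheme.{u}) ⟶ X' := h.lift (f ⁻¹ᵁ V).ι ((f ∣_ V) ≫ i.isoOpensRange.inv)
      (by rw [Category.assoc, Scheme.Hom.isoOpensRange_inv_comp, morphismRestrict_ι])
    have hτ : τ ≫ i' = (f ⁻¹ᵁ V).ι := h.lift_fst _ _ _
    haveI : IsOpenImmersion (τ ≫ i') := hτ ▸ inferInstance
    haveI : IsOpenImmersion τ := IsOpenImmersion.of_comp τ i'
    haveI := QCohD.hasRpush (f ∣_ V)
    obtain ⟨e⟩ := nonempty_restrictD_rpush_iso f V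
    letI := rpushCommShift (f ∣_ V)
    haveI := rpush_isTriangulated (f ∣_ V)
    have h1 : IsZero ((rd V.ι).obj ((DCoh.Rpush f).obj C)) :=
      ((DCoh.Rpush (f ∣_ V)).map_isZero (isZero_rd_of_factor τ i' _ hτ hC)).of_iso (e.app C)
    exact isZero_rd_of_factor i.isoOpensRange.hom V.ι i i.isoOpensRange_hom_ι h1
  haveI : IsIso ((DCoh.Lpull i).map ((DCoh.Rpush f).map (a'.unit.app E))) :=
    (Triangle.isZero₃_iff_isIso₁ _ ((DCoh.Lpull i).map_distinguished _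
      ((DCoh.Rpush f).map_distinguished _ hT))).1 hz
  have hm := bcApp_eq_transpose (lpullRpushAdj f) (lpullRpushAdj f') a a' φ E
  rw [← Equiv.eq_symm_apply, Adjunction.homEquiv_counit, Functor.map_comp] at hm
  rw [hm]
  infer_instance

theorem bc_openImmersion (h : IsPullback i' f' f i) : BC f f' i i' := by
  haveI := hasLpull f
  haveI := QCohD.hasRpush f
  haveI := hasLpull f'
  haveI := QCohD.hasRpush f'
  haveI := hasLpull i
  haveI := hasLpull i'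
  exact bc_of_can fun φ E _ => isIso_bcApp_openImmersion h φ E

end OpenBC

section Restrict

variable {f : X ⟶ Y} {f' : X' ⟶ Y'} {g : Y' ⟶ Y} {g' : X' ⟶ X}
  {V W V' W' : Scheme.{u}} {i : V ⟶ Y} {i' : V' ⟶ Y'} [IsOpenImmersion i] [IsOpenImmersion i']
  {iX : W ⟶ X} {iX' : W' ⟶ X'} {fV : W ⟶ V} {fV' : W' ⟶ V'} {gV : V' ⟶ V} {gV' : W' ⟶ W}

/-- Base change restricted to charts on the bases. -/
theorem isIso_lpull_bcApp (hV : IsPullback iX fV f i)
    (hV' : IsPullback iX' fV' f' i') (hb : gV ≫ i = i' ≫ g) (hx : gV' ≫ iX = iX' ≫ g')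
    (hBC : BC fV fV' gV gV') [DCoh.HasLpull f] [DCoh.HasRpush f]
    [DCoh.HasLpull f'] [DCoh.HasRpush f'] [DCoh.HasLpull g] [DCoh.HasLpull g'] [DCoh.HasLpull i']
    (φ : DCoh.Lpull g ⋙ DCoh.Lpull f' ≅ DCoh.Lpull f ⋙ DCoh.Lpull g') (E : DCoh.D X)
    (hE : DCoh.IsQCohD E) :
    IsIso ((DCoh.Lpull i').map (bcApp (lpullRpushAdj f) (lpullRpushAdj f') φ.hom E)) := by
  haveI := hasLpull iX'
  haveI := hasLpull fV'
  haveI := QCohD.hasRpush fV'
  haveI := hasLpull i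
  haveI := QCohD.hasRpush i
  haveI := hasLpull fV
  haveI := QCohD.hasRpush fV
  haveI := hasLpull iX
  haveI := hasLpull gV
  haveI := hasLpull gV'
  obtain ⟨χ⟩ := nonempty_sq hV'.w (isLp_self f') (isLp_self fV') (isLp_self i') (isLp_self iX')
  let Φ₀ : (DCoh.Lpull g ⋙ DCoh.Lpull i') ⋙ DCoh.Lpull fV' ≅
      DCoh.Lpull f ⋙ (DCoh.Lpull g' ⋙ DCoh.Lpull iX') :=
    Functor.associator _ _ _ ≪≫ isoWhiskerLeft _ χ ≪≫ (Functor.associator _ _ _).symm ≪≫ isoWhiskerRight φ _ ≪≫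
      Functor.associator _ _ _
  have hΦ₀ : Φ₀.hom = pasteG φ.hom χ.hom := by
    ext c
    simp [Φ₀, pasteG]
  obtain ⟨α⟩ := nonempty_sq hV.w (isLp_self f) (isLp_self fV) (isLp_self i) (isLp_self iX)
  obtain ⟨j⟩ : Nonempty (DCoh.Lpull i ⋙ DCoh.Lpull gV ≅ DCoh.Lpull g ⋙ DCoh.Lpull i') :=
    ((isLp_self g).comp (isLp_self i')).unique (((isLp_self i).comp (isLp_self gV)).congr hb)
  obtain ⟨k⟩ : Nonempty (DCoh.Lpull iX ⋙ DCoh.Lpull gV' ≅ DCoh.Lpull g' ⋙ DCoh.Lpull iX') :=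
    ((isLp_self g').comp (isLp_self iX')).unique (((isLp_self iX).comp (isLp_self gV')).congr hx)
  let Φ := isoWhiskerRight j _ ≪≫ Φ₀ ≪≫ isoWhiskerLeft (DCoh.Lpull f) k.symm
  have hΦ : Φ.hom = transportSq Φ₀.hom (Iso.refl _) (Iso.refl _) j k := by
    ext c
    simp [Φ, transportSq]
  haveI := isIso_counit_of_openImmersion i (lpullRpushAdj i)
  obtain ⟨ψ, hψ⟩ := exists_factor α (lpullRpushAdj i) Φ
  have h1 : IsIso (bcApp (lpullRpushAdj f) (lpullRpushAdj fV') Φ.hom E) := by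
    rw [← hψ, bcApp_pasteG (lpullRpushAdj f) (lpullRpushAdj fV) α.hom (lpullRpushAdj fV') ψ.hom E]
    haveI := isIso_bcApp_openImmersion hV α E
    haveI := hBC _ _ _ _ _ _ (lpullRpushAdj fV) (lpullRpushAdj fV') (isLp_self fV) (isLp_self fV')
      (isLp_self gV) (isLp_self gV') ψ _ (QCohD.isQCohD_lpull iX hE)
    infer_instance
  rw [hΦ, isIso_bcApp_transport, hΦ₀,
    bcApp_pasteG (lpullRpushAdj f) (lpullRpushAdj f') φ.hom (lpullRpushAdj fV') χ.hom E] at h1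
  haveI := isIso_bcApp_openImmersion hV' χ ((DCoh.Lpull g').obj E)
  exact IsIso.of_isIso_comp_right _ (bcApp (lpullRpushAdj f') (lpullRpushAdj fV') χ.hom ((DCoh.Lpull g').obj E))

end Restrict

/-- An isomorphism may be tested after restriction to a cover. -/
theorem isIso_of_charts {E E' : DCoh.D X} (m : E ⟶ E')
    (h : ∀ x : X, ∃ (V : Scheme.{u}) (i : V ⟶ X) (_ : IsOpenImmersion i) (_ : DCoh.HasLpull i),
      x ∈ i.opensRange ∧ IsIso ((DCoh.Lpull i).map m)) : IsIso m := by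
  obtain ⟨C, p, q, hT⟩ := distinguished_cocone_triangle m
  refine (Triangle.isZero₃_iff_isIso₁ _ hT).1 (isZero_of_cover fun x => ?_)
  obtain ⟨V, i, _, _, hx, hm⟩ := h x
  refine ⟨i.opensRange, hx, ?_⟩
  letI := lpullCommShift i
  haveI := lpull_isTriangulated i
  have hz : IsZero ((DCoh.Lpull i).obj C) :=
    (Triangle.isZero₃_iff_isIso₁ _ ((DCoh.Lpull i).map_distinguished _ hT)).2 hm
  rw [isZero_lpull_iff] at hz
  exact isZero_rd_of_factor i.isoOpensRange.inv i _ i.isoOpensRange_inv_comp hz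

/-- Base change is local on the bases. -/
theorem bc_of_local {f : X ⟶ Y} {f' : X' ⟶ Y'} {g : Y' ⟶ Y} {g' : X' ⟶ X} (h : IsPullback g' f' f g)
    (H : ∀ (A A' : CommRingCat.{u}) (i : Spec A ⟶ Y) [IsOpenImmersion i] (i' : Spec A' ⟶ Y')
      [IsOpenImmersion i'] (φ : A ⟶ A'), Spec.map φ ≫ i = i' ≫ g →
      ∀ (W W' : Scheme.{u}) (iX : W ⟶ X) (fV : W ⟶ Spec A) (gV' : W' ⟶ W) (fV' : W' ⟶ Spec A'),
        IsPullback iX fV f i → IsPullback gV' fV' fV (Spec.map φ) → BC fV fV' (Spec.map φ) gV') :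
    BC f f' g g' := by
  haveI := hasLpull f
  haveI := QCohD.hasRpush f
  haveI := hasLpull f'
  haveI := QCohD.hasRpush f'
  haveI := hasLpull g
  haveI := hasLpull g'
  refine bc_of_can fun φ E hE => isIso_of_charts _ fun y => ?_
  obtain ⟨_, ⟨V, hV : IsAffineOpen V, rfl⟩, hxV, -⟩ :=
    Y.isBasis_affineOpens.exists_subset_of_mem_open (Set.mem_univ (g.base y)) isOpen_univ
  obtain ⟨_, ⟨U, hU : IsAffineOpen U, rfl⟩, hyU, hle⟩ :=
    Y'.isBasis_affineOpens.exists_subset_of_mem_open (show y ∈ g ⁻¹ᵁ V from hxV) (g ⁻¹ᵁ V).isOpen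
  haveI := hasLpull hU.fromSpec
  refine ⟨_, hU.fromSpec, inferInstance, inferInstance, by rw [hU.opensRange_fromSpec]; exact hyU, ?_⟩
  let ψ := g.appLE V U hle
  have hb : Spec.map ψ ≫ hV.fromSpec = hU.fromSpec ≫ g := IsAffineOpen.SpecMap_appLE_fromSpec g hV hU hle
  let hW := IsPullback.of_hasPullback f hV.fromSpec
  let hW' := IsPullback.of_hasPullback (pullback.snd f hV.fromSpec) (Spec.map ψ)
  let iX' := h.lift (pullback.fst _ _ ≫ pullback.fst f hV.fromSpec) (pullback.snd _ _ ≫ hU.fromSpec)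
    (by rw [Category.assoc, hW.w, Category.assoc, ← hb, ← Category.assoc, hW'.w, Category.assoc])
  have h1 : iX' ≫ g' = pullback.fst _ _ ≫ pullback.fst f hV.fromSpec := h.lift_fst _ _ _
  have hV' : IsPullback iX' (pullback.snd (pullback.snd f hV.fromSpec) (Spec.map ψ)) f' hU.fromSpec := by
    refine IsPullback.of_right ?_ (h.lift_snd _ _ _) h
    rw [h1, ← hb]
    exact hW'.paste_horiz hW
  exact isIso_lpull_bcApp hW hV' hb h1.symm
    (H _ _ hV.fromSpec hU.fromSpec ψ hb _ _ _ _ _ _ hW hW') φ E hE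

end Groth.Agent.H16Derived.BaseChange
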