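import Groth.Agent.H16Derived.BaseChange.Finiteness
import Groth.Agent.H16Derived.Dual.Unit
import Groth.Agent.H16Derived.TorTest.PerfSpread
import Groth.Agent.H8Props.RelPCLocal

/-!
# `Rf_*` of pseudo-coherent and relatively perfect objects for `f` proper and flat
-/

set_option autoImplicit false
set_option linter.style.haveILetI false
set_option backward.isDefEq.respectTransparency false

universe u

open CategoryTheory CategoryTheory.Limits AlgebraicGeometry CategoryTheory.Pretriangulated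

attribute [local instance] HasDerivedCategory.standard

namespace Groth.Agent.H16Derived.BaseChange

open Groth.Agent.H16Derived.KFlat Groth.Agent.H16Derived.KFlat.Stalk

variable {X S : Scheme.{u}}

theorem isQCohD_of_pc {E : DCoh.D X} (hpc : ∀ m : ℤ, DCoh.IsPseudoCoherentD m E) : DCoh.IsQCohD E :=
  fun i => H8Props.RelPC.isQCoh_HD_of_pc (hpc (i - 1)) i (by omega)

theorem nonempty_ltensorS₀ [DCoh.HasLTensorCx (Dual.S₀ X)] (E : DCoh.D X) :
    Nonempty ((DCoh.LTensorCx (Dual.S₀ X)).obj E ≅ E) := by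
  obtain ⟨P, -, hP, ⟨eP⟩⟩ := Dual.exists_rep E
  exact ⟨(DCoh.LTensorCx (Dual.S₀ X)).mapIso eP.symm ≪≫ (ltensorCxIso (Dual.S₀ X)).app ⟨P, hP⟩ ≪≫
    DerivedCategory.Q.mapIso ((Dual.tensorS₀Iso X).app P) ≪≫ eP⟩

/-- Over an affine base. -/
theorem isPseudoCoherentD_rpush_spec {R : CommRingCat.{u}} (f : X ⟶ Spec R) [IsProper f] [Flat f]
    [LocallyOfFinitePresentation f] [DCoh.HasRpush f] {E : DCoh.D X}
    (hE : ∀ m : ℤ, DCoh.IsPseudoCoherentD m E) (m : ℤ) :
    DCoh.IsPseudoCoherentD m ((DCoh.Rpush f).obj E) := by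
  haveI : CompactSpace X := QuasiCompact.compactSpace_of_compactSpace f
  haveI : QuasiSeparatedSpace X := quasiSeparatedSpace_of_quasiSeparated f
  haveI := hasLTensorCx (Dual.S₀ X)
  let e : DCoh.inD X (Coh.structureModule X) ≅ DCoh.toD X (Dual.S₀ X) :=
    (DerivedCategory.singleFunctorIsoCompQ X.Modules 0).app _
  have hq : DCoh.IsQCohD (DCoh.toD X (Dual.S₀ X)) :=
    QCohD.isQCohD_iso e (TorTest.isQCohD_inD H10Coh.isQuasicoherent_unit)
  haveI : (DCoh.toD X (Dual.S₀ X)).IsLE 0 := by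
    have : (DerivedCategory.Q.obj (Dual.S₀ X)).IsLE 0 := inferInstance
    exact this
  obtain ⟨e₁⟩ := nonempty_ltensorS₀ E
  refine isPseudoCoherentD_of_iso ((DCoh.Rpush f).mapIso e₁)
    (Thomason.isPseudoCoherentD_rpush_ltensor f (Dual.S₀ X) hq 0 (fun P hP k => ?_) hE
      (isQCohD_of_pc hE) m)
  obtain ⟨e₂⟩ := nonempty_ltensorS₀ P
  exact isPseudoCoherentD_of_iso ((DCoh.Rpush f).mapIso e₂).symm
    (isPseudoCoherentD_of_isPerfect (isPerfect_rpush_spec f hP) k)

/-- **Direct images of pseudo-coherent objects.** -/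
theorem isPseudoCoherentD_rpush (f : X ⟶ S) [IsProper f] [Flat f] [LocallyOfFinitePresentation f]
    [DCoh.HasRpush f] {E : DCoh.D X} (hE : ∀ m : ℤ, DCoh.IsPseudoCoherentD m E) (m : ℤ) :
    DCoh.IsPseudoCoherentD m ((DCoh.Rpush f).obj E) := by
  refine isPseudoCoherentD_of_local fun s => ?_
  obtain ⟨_, ⟨V, hV : IsAffineOpen V, rfl⟩, hsV, -⟩ :=
    S.isBasis_affineOpens.exists_subset_of_mem_open (Set.mem_univ s) isOpen_univ
  let i := hV.fromSpec
  let hW := IsPullback.of_hasPullback f i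
  haveI := hasLpull f
  haveI := hasLpull i
  haveI := hasLpull (pullback.fst f i)
  haveI := hasLpull (pullback.snd f i)
  haveI := QCohD.hasRpush (pullback.snd f i)
  obtain ⟨χ⟩ := nonempty_sq hW.w (isLp_self f) (isLp_self (pullback.snd f i)) (isLp_self i)
    (isLp_self (pullback.fst f i))
  haveI := isIso_bcApp_openImmersion hW χ E
  obtain ⟨e⟩ := QCohD.lpull_openImmersion i ((DCoh.Rpush f).obj E)
  have h1 : DCoh.IsPseudoCoherentD m ((rd i).obj ((DCoh.Rpush f).obj E)) :=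
    isPseudoCoherentD_of_iso
      ((asIso (bcApp (lpullRpushAdj f) (lpullRpushAdj (pullback.snd f i)) χ.hom E)).symm ≪≫ e)
      (isPseudoCoherentD_rpush_spec (pullback.snd f i)
        (fun k => isPseudoCoherentD_lpull (pullback.fst f i) (hE k)) m)
  obtain ⟨s', rfl⟩ : s ∈ Set.range i.base := by rw [IsAffineOpen.range_fromSpec]; exact hsV
  obtain ⟨W, hW', hm⟩ := (isPseudoCoherentD_iff _ _).1 h1 s'
  exact ⟨_, W.ι ≫ i, inferInstance, ⟨⟨s', hW'⟩, rfl⟩, hm.of_rd⟩

/-- Terms flat over the base give a tor amplitude. -/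
theorem hasTorAmplitude_of_flat {f : X ⟶ S} {a b : ℤ} (E : CochainComplex X.Modules ℤ)
    (hz : DCoh.VanishesOutside E a b) (hf : ∀ i : ℤ, FlatMod.IsFlatOver f (E.X i)) :
    DerSch.HasTorAmplitude f a b E := fun x =>
  ⟨(DerSch.stalkCxOver f x).obj E, fun i hi => (DerSch.stalkOver f x).map_isZero (hz i hi),
    fun i => hf i x, ⟨Iso.refl _⟩⟩

/-- Relative tor dimension gives the stalkwise notion. -/
theorem locFiniteTorAmplitude_of_relTorDim {f : X ⟶ S} {E : DCoh.D X}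
    (htor : DCoh.LocHasFiniteRelTorDim f E) (F : CochainComplex X.Modules ℤ)
    (hF : Nonempty (DCoh.toD X F ≅ E)) : DerSch.LocFiniteTorAmplitude f F := fun x => by
  obtain ⟨V, a, b, hx, h⟩ := htor x
  obtain ⟨E', hz, hf, ⟨e⟩⟩ := h F hF
  exact ⟨V, a, b, hx, fun x' hx' => (TorTest.at_restrict V.ι f a b F ⟨x', hx'⟩).1
    (TorTest.hasTorAmplitude_of_iso e (hasTorAmplitude_of_flat E' hz hf) ⟨x', hx'⟩)⟩

/-- Pseudo-coherent and locally of finite tor amplitude implies perfect. -/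
theorem isPerfect_of_locFiniteTorAmplitude {K : CochainComplex S.Modules ℤ}
    (hpc : ∀ m : ℤ, DCoh.IsPseudoCoherentD m (DCoh.toD S K))
    (hT : DerSch.LocFiniteTorAmplitude (𝟙 S) K) : DCoh.IsPerfect (DCoh.toD S K) := by
  refine isPerfect_of_rd fun s => ?_
  obtain ⟨W, a, b, hs, hW⟩ := hT s
  refine ⟨W, hs, ?_⟩
  let K₁ := (DCoh.restrictCx W).obj K
  have hK₁ : DerSch.HasTorAmplitude (𝟙 (W : Scheme.{u})) a b K₁ := fun w => by
    refine TorTest.at_cancel (𝟙 _) W.ι ((TorTest.at_congr (p' := W.ι ≫ 𝟙 S) ?_ a b K₁ w).2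
      ((TorTest.at_restrict W.ι (𝟙 S) a b K w).2 (hW w.1 w.2)))
    rw [Category.id_comp, Category.comp_id]
  haveI : K₁.IsGE a := (DerivedCategory.isGE_Q_obj_iff K₁ a).1 (TorTest.bounds_of_ta _ hK₁).1
  haveI : IsIso (DerivedCategory.Q.map (CochainComplex.πTruncGE K₁ a)) :=
    isIso_Q_map _ (inferInstance : QuasiIso (CochainComplex.πTruncGE K₁ a))
  let e : (rd W.ι).obj (DCoh.toD S K) ≅ DCoh.toD (W : Scheme.{u}) (K₁.truncGE a) :=
    (rdQ W.ι).app K ≪≫ asIso (DerivedCategory.Q.map (CochainComplex.πTruncGE K₁ a))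
  refine isPerfect_of_iso e.symm (isPerfect_of_local fun w => ?_)
  obtain ⟨U, j, hj, hw, hm⟩ := TorTest.exists_hasPerfModel
    (isPseudoCoherentD_of_iso e (isPseudoCoherentD_rd W.ι (hpc (a - 1)))) w
    (TorTest.hasTorAmplitude_of_iso (asIso (DerivedCategory.Q.map (CochainComplex.πTruncGE K₁ a))) hK₁ w)
  exact ⟨U, j, hj, hw, hm⟩

/-- **Direct images of relatively perfect objects.** -/
theorem isPerfect_rpush_of_relPerfect (f : X ⟶ S) [Flat f] [IsProper f] [LocallyOfFinitePresentation f]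
    [DCoh.HasRpush f] {E : DCoh.D X} (hpc : ∀ m : ℤ, DCoh.IsPseudoCoherentD m E)
    (htor : DCoh.LocHasFiniteRelTorDim f E) : DCoh.IsPerfect ((DCoh.Rpush f).obj E) := by
  let F := DerivedCategory.Q.objPreimage E
  let eF : DCoh.toD X F ≅ E := DerivedCategory.Q.objObjPreimageIso E
  let K := DerivedCategory.Q.objPreimage ((DCoh.Rpush f).obj (DCoh.toD X F))
  let eK : DCoh.toD S K ≅ (DCoh.Rpush f).obj (DCoh.toD X F) := DerivedCategory.Q.objObjPreimageIso _
  have hT : DerSch.LocFiniteTorAmplitude (𝟙 S) K :=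
    TorTest.locFiniteTorAmplitudeD_rpush f (𝟙 S) f F (Category.comp_id f)
      (QCohD.isQCohD_iso eF.symm (isQCohD_of_pc hpc))
      (locFiniteTorAmplitude_of_relTorDim htor F ⟨eF⟩) K ⟨eK⟩
  refine isPerfect_of_iso (eK ≪≫ (DCoh.Rpush f).mapIso eF) (isPerfect_of_locFiniteTorAmplitude ?_ hT)
  exact fun m => isPseudoCoherentD_of_iso (eK ≪≫ (DCoh.Rpush f).mapIso eF).symm (isPseudoCoherentD_rpush f hpc m)

end Groth.Agent.H16Derived.BaseChange
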