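import Groth.Agent.H16Derived.KFlat.PullDerived
import Groth.Agent.H16Derived.KFlat.TorAmp
import Groth.Agent.H16Derived.TorTest.StalkAmp
import Groth.Agent.H06Mod.StalkBaseChange
import Groth.Agent.H8Props.FlatKernel
import Groth.Agent.H16Derived.KFlat.LpullLocal
import Groth.Agent.H16Derived.KFlat.RestrictD
import Groth.Agent.H16Derived.AcyclicLES
import Mathlib.Algebra.Homology.HomotopyCategory.DegreewiseSplit

/-!
# Pullback of bounded above exact complexes of modules flat over the base
-/

set_option autoImplicit false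
set_option linter.style.haveILetI false
set_option backward.isDefEq.respectTransparency false

universe u

open CategoryTheory CategoryTheory.Limits AlgebraicGeometry TensorProduct MonoidalCategory

attribute [local instance] HasDerivedCategory.standard

namespace Groth.Agent.H16Derived.BaseChange

section Algebra

variable (R A R' C : Type u) [CommRing R] [CommRing A] [CommRing R'] [CommRing C]
  [Algebra R A] [Algebra R R'] [Algebra R C] [Algebra A C] [Algebra R' C] [IsScalarTower R A C]
  [IsScalarTower R R' C]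

attribute [local instance] Algebra.TensorProduct.rightAlgebra

/-- An injection with cokernel flat over `R` stays injective over `C`, for `C` flat over `A ⊗_R R'`. -/
theorem lTensor_injective_of_flat_coker (hflat : (H06Mod.tensorLift R A R' C).toRingHom.Flat)
    {N M Q : Type u} [AddCommGroup N] [Module A N] [Module R N] [IsScalarTower R A N]
    [AddCommGroup M] [Module A M] [Module R M] [IsScalarTower R A M]
    [AddCommGroup Q] [Module A Q] [Module R Q] [IsScalarTower R A Q] [Module.Flat R Q]
    (g : N →ₗ[A] M) (p : M →ₗ[A] Q) (hg : Function.Injective g) (H : Function.Exact g p)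
    (hp : Function.Surjective p) : Function.Injective (g.lTensor C) := by
  let D := R' ⊗[R] A
  let ψ : D →ₐ[R] C := (H06Mod.tensorLift R A R' C).comp (Algebra.TensorProduct.comm R R' A).toAlgHom
  letI : Algebra D C := ψ.toRingHom.toAlgebra
  haveI : IsScalarTower A D C := .of_algebraMap_eq fun r => by
    show algebraMap A C r = H06Mod.tensorLift R A R' C (Algebra.TensorProduct.comm R R' A (1 ⊗ₜ r))
    rw [Algebra.TensorProduct.comm_tmul]
    simp [H06Mod.tensorLift]
  haveI : Module.Flat D C :=
    (RingHom.Flat.of_bijective (f := (Algebra.TensorProduct.comm R R' A).toAlgHom.toRingHom)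
      (Algebra.TensorProduct.comm R R' A).bijective).comp hflat
  let eN := Algebra.IsPushout.cancelBaseChange R R' A D N
  let eM := Algebra.IsPushout.cancelBaseChange R R' A D M
  have h1 : Function.Injective ((g.restrictScalars R).lTensor R') :=
    LinearMap.lTensor_injective_of_exact_of_flat (p.restrictScalars R) hp (g.restrictScalars R) hg H R'
  have key : ∀ t, g.baseChange D (eN.symm t) = eM.symm ((g.restrictScalars R).lTensor R' t) := by
    intro t
    induction t using TensorProduct.induction_on with
    | zero => simp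
    | add a b ha hb => simp only [map_add, ha, hb]
    | tmul r n => simp [eN, eM, Algebra.IsPushout.cancelBaseChange]
  have h2 : Function.Injective (g.baseChange D) := fun a b h => by
    obtain ⟨a, rfl⟩ := eN.symm.surjective a
    obtain ⟨b, rfl⟩ := eN.symm.surjective b
    rw [key, key] at h
    rw [h1 (eM.symm.injective h)]
  let cN := AlgebraTensorModule.cancelBaseChange A D C C N
  let cM := AlgebraTensorModule.cancelBaseChange A D C C M
  have h3 : Function.Injective ((g.baseChange D).lTensor C) :=
    Module.Flat.lTensor_preserves_injective_linearMap _ h2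
  have key2 : ∀ t, cM ((g.baseChange D).lTensor C t) = g.lTensor C (cN t) := by
    intro t
    induction t using TensorProduct.induction_on with
    | zero => simp
    | add a b ha hb => simp only [map_add, ha, hb]
    | tmul c z =>
      induction z using TensorProduct.induction_on with
      | zero => simp
      | add a b ha hb => simp only [tmul_add, map_add, ha, hb]
      | tmul d n => simp [cN, cM]
  intro a b h
  obtain ⟨a, rfl⟩ := cN.surjective a
  obtain ⟨b, rfl⟩ := cN.surjective b
  rw [← key2, ← key2] at h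
  rw [h3 (cM.injective h)]

/-- A bounded above exact complex with terms flat over `R` stays exact over `C`. -/
theorem lTensor_exact_of_flat (hflat : (H06Mod.tensorLift R A R' C).toRingHom.Flat)
    (K : CochainComplex (ModuleCat.{u} A) ℤ) (b : ℤ) (hb : ∀ i, b < i → IsZero (K.X i))
    (hex : ∀ i, Function.Exact (K.d (i - 1) i).hom (K.d i (i + 1)).hom)
    (hR : ∀ i, letI := Module.compHom (K.X i) (algebraMap R A); Module.Flat R (K.X i)) (i : ℤ) :
    Function.Exact ((K.d (i - 1) i).hom.lTensor C) ((K.d i (i + 1)).hom.lTensor C) := by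
  letI : ∀ i, Module R (K.X i) := fun i => Module.compHom (K.X i) (algebraMap R A)
  haveI : ∀ i, IsScalarTower R A (K.X i) := fun i => .of_algebraMap_smul fun _ _ => rfl
  haveI : ∀ i, Module.Flat R (K.X i) := hR
  let Z : ∀ i, Submodule A (K.X i) := fun i => LinearMap.ker (K.d i (i + 1)).hom
  have hrange : ∀ i, LinearMap.range (K.d i (i + 1)).hom = Z (i + 1) := fun i => by
    have := LinearMap.exact_iff.1 (hex (i + 1))
    rw [show i + 1 - 1 = i by ring] at this
    exact this.symm
  let π : ∀ i, K.X i →ₗ[A] Z (i + 1) := fun i => LinearMap.codRestrict _ (K.d i (i + 1)).hom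
    fun x => (hrange i).le ⟨x, rfl⟩
  have hπ : ∀ i, Function.Surjective (π i) := fun i ⟨z, hz⟩ => by
    obtain ⟨x, hx⟩ := (hrange i).ge hz
    exact ⟨x, Subtype.ext hx⟩
  have hπex : ∀ i, Function.Exact (Z i).subtype (π i) := fun i x => by
    constructor
    · intro h; exact ⟨⟨x, congrArg Subtype.val h⟩, rfl⟩
    · rintro ⟨z, rfl⟩; exact Subtype.ext z.2
  have hZ : ∀ i, Module.Flat R (Z i) := by
    have h0 : ∀ i, b < i → Module.Flat R (Z i) := fun i hi => by
      haveI := ModuleCat.subsingleton_of_isZero (hb i hi)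
      infer_instance
    intro i
    obtain ⟨n, hn⟩ : ∃ n : ℕ, b + 1 - i ≤ n := ⟨(b + 1 - i).toNat, Int.self_le_toNat _⟩
    induction n generalizing i with
    | zero => exact h0 i (by omega)
    | succ n ih =>
      haveI := ih (i + 1) (by push_cast at hn; omega)
      exact H8Props.flat_of_exact ((Z i).subtype.restrictScalars R) ((π i).restrictScalars R)
        (Z i).subtype_injective (hπex i) (hπ i)
  intro x
  constructor
  · intro hx
    have e : (K.d i (i + 1)).hom = (Z (i + 1)).subtype ∘ₗ π i := rfl
    haveI := hZ (i + 1 + 1)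
    rw [e, LinearMap.lTensor_comp, LinearMap.comp_apply] at hx
    have hinj := lTensor_injective_of_flat_coker R A R' C hflat (Z (i + 1)).subtype (π (i + 1))
      (Z (i + 1)).subtype_injective (hπex (i + 1)) (hπ (i + 1))
    obtain ⟨z, rfl⟩ := (lTensor_exact C (hπex i) (hπ i) x).1 (hinj (by rw [hx, map_zero]))
    let π' : K.X (i - 1) →ₗ[A] Z i := LinearMap.codRestrict _ (K.d (i - 1) i).hom
      fun y => (hex i _).2 ⟨y, rfl⟩
    have hπ' : Function.Surjective π' := fun ⟨z, hz⟩ => by
      obtain ⟨y, hy⟩ := (hex i z).1 hz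
      exact ⟨y, Subtype.ext hy⟩
    obtain ⟨w, rfl⟩ := LinearMap.lTensor_surjective C hπ' z
    exact ⟨w, by rw [← LinearMap.comp_apply, ← LinearMap.lTensor_comp]; rfl⟩
  · rintro ⟨w, rfl⟩
    rw [← LinearMap.comp_apply, ← LinearMap.lTensor_comp, ← ModuleCat.hom_comp, K.d_comp_d]
    simp

end Algebra

section Scheme

open Groth.Agent.H16Derived.KFlat Groth.Agent.H16Derived.KFlat.Stalk

attribute [local instance] H06Mod.stalkAlgebra

variable {X Y Y' : Scheme.{u}}

/-- Pullback of a bounded above exact complex of modules flat over the base stays exact. -/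
theorem acyclic_pullback_of_flatOver (f : X ⟶ Y) (g : Y' ⟶ Y) (W : CochainComplex X.Modules ℤ)
    (b : ℤ) (hb : ∀ i, b < i → IsZero (W.X i)) (hW : W.Acyclic)
    (hflat : ∀ i, FlatMod.IsFlatOver f (W.X i)) :
    (((Scheme.Modules.pullback (pullback.fst f g)).mapHomologicalComplex (ComplexShape.up ℤ)).obj W).Acyclic := by
  intro i
  rw [HomologicalComplex.exactAt_iff' _ (i - 1) i (i + 1) (by simp) (by simp)]
  refine (exact_iff _).2 fun x' => ?_
  let g' := pullback.fst f g
  let f' := pullback.snd f g
  let x := g'.base x'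
  let y' := f'.base x'
  have hy : g.base y' = f.base x := by
    show g.base (f'.base x') = f.base (g'.base x')
    rw [← Scheme.Hom.comp_apply, ← Scheme.Hom.comp_apply, pullback.condition]
  let β : Y.presheaf.stalk (f.base x) ⟶ Y'.presheaf.stalk y' :=
    Y.presheaf.stalkSpecializes (specializes_of_eq hy) ≫ g.stalkMap y'
  letI : Algebra (Y.presheaf.stalk (f.base x)) (Y'.presheaf.stalk y') := β.hom.toAlgebra
  letI : Algebra (Y.presheaf.stalk (f.base x)) (X.presheaf.stalk x) := H06Mod.stalkAlgebra f x
  letI : Algebra (X.presheaf.stalk x) ((pullback f g).presheaf.stalk x') := H06Mod.stalkAlgebra g' x'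
  letI : Algebra (Y'.presheaf.stalk y') ((pullback f g).presheaf.stalk x') := H06Mod.stalkAlgebra f' x'
  letI : Algebra (Y.presheaf.stalk (f.base x)) ((pullback f g).presheaf.stalk x') :=
    (f.stalkMap x ≫ g'.stalkMap x').hom.toAlgebra
  haveI : IsScalarTower (Y.presheaf.stalk (f.base x)) (X.presheaf.stalk x)
      ((pullback f g).presheaf.stalk x') := .of_algebraMap_eq fun _ => rfl
  have hb' : Spec.map β ≫ Y.fromSpecStalk (f.base x) = Y'.fromSpecStalk y' ≫ g := by
    rw [Spec.map_comp, Category.assoc, Scheme.SpecMap_stalkSpecializes_fromSpecStalk,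
      Scheme.SpecMap_stalkMap_fromSpecStalk]
  have ha : Spec.map (f.stalkMap x) ≫ Y.fromSpecStalk (f.base x) = X.fromSpecStalk x ≫ f :=
    Scheme.SpecMap_stalkMap_fromSpecStalk f
  clear_value β
  have hcomm : β ≫ f'.stalkMap x' = f.stalkMap x ≫ g'.stalkMap x' := by
    apply Spec.map_injective
    rw [← cancel_mono (Y.fromSpecStalk (f.base x)), Spec.map_comp, Spec.map_comp, Category.assoc,
      Category.assoc, hb', ha, ← Category.assoc, ← Category.assoc,
      Scheme.SpecMap_stalkMap_fromSpecStalk, Scheme.SpecMap_stalkMap_fromSpecStalk, Category.assoc,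
      Category.assoc, pullback.condition]
  haveI : IsScalarTower (Y.presheaf.stalk (f.base x)) (Y'.presheaf.stalk y')
      ((pullback f g).presheaf.stalk x') :=
    .of_algebraMap_eq fun r => congr($(congrArg CommRingCat.Hom.hom hcomm) r).symm
  have hC := H06Mod.flat_tensorLift (Y.presheaf.stalk (f.base x)) (X.presheaf.stalk x)
    (Y'.presheaf.stalk y') ((pullback f g).presheaf.stalk x') f g (X.fromSpecStalk x)
    (Y.fromSpecStalk (f.base x)) (Y'.fromSpecStalk y') ha hb' ((pullback f g).fromSpecStalk x')
    (Scheme.SpecMap_stalkMap_fromSpecStalk _) (Scheme.SpecMap_stalkMap_fromSpecStalk _)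
  let K := ((DerSch.stalkFunctor X x).mapHomologicalComplex (ComplexShape.up ℤ)).obj W
  have hex : ∀ j, Function.Exact (K.d (j - 1) j).hom (K.d j (j + 1)).hom := fun j =>
    (ShortComplex.ShortExact.moduleCat_exact_iff_function_exact _).1 ((exact_iff _).1
      ((W.exactAt_iff' (j - 1) j (j + 1) (by simp) (by simp)).1 (hW j)) x)
  have key := lTensor_exact_of_flat _ _ _ _ hC K b
    (fun j hj => (DerSch.stalkFunctor X x).map_isZero (hb j hj)) hex (fun j => hflat j x) i
  have h : (((W.sc' (i - 1) i (i + 1)).map (DerSch.stalkFunctor X x)).map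
      (tensorLeft (pullRing g' x'))).Exact :=
    (ShortComplex.ShortExact.moduleCat_exact_iff_function_exact _).2 key
  rw [ShortComplex.exact_iff_exact_map_forget₂] at h ⊢
  exact ShortComplex.exact_of_iso ((W.sc' (i - 1) i (i + 1)).mapNatIso (pullStalkNatIso g' x')) h

/-- Middle terms of short exact sequences of modules flat over the base. -/
theorem isFlatOver_mid {f : X ⟶ Y} {S : ShortComplex X.Modules} (hS : S.ShortExact)
    (h₁ : FlatMod.IsFlatOver f S.X₁) (h₃ : FlatMod.IsFlatOver f S.X₃) : FlatMod.IsFlatOver f S.X₂ := fun x => by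
  letI := fun M : X.Modules => FlatMod.moduleStalkOver f M x
  haveI : Module.Flat (Y.presheaf.stalk (f.base x)) (S.X₁.presheaf.stalk x) := h₁ x
  haveI : Module.Flat (Y.presheaf.stalk (f.base x)) (S.X₃.presheaf.stalk x) := h₃ x
  haveI : ∀ M : X.Modules, IsScalarTower (Y.presheaf.stalk (f.base x)) (X.presheaf.stalk x) (M.presheaf.stalk x) :=
    fun M => .of_algebraMap_smul fun _ _ => rfl
  exact H06Mod.flat_of_exact_middle ((H06Mod.stalkLin S.f x).restrictScalars (Y.presheaf.stalk (f.base x)))
    ((H06Mod.stalkLin S.g x).restrictScalars (Y.presheaf.stalk (f.base x)))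
    (H06Mod.stalk_injective S hS x) (H06Mod.stalk_exact S hS x) (H06Mod.stalk_surjective S hS x)

/-- An `O`-flat module on a scheme flat over the base is flat over the base. -/
theorem isFlatOver_of_isFlat (f : X ⟶ Y) [Flat f] {M : X.Modules} (h : FlatMod.IsFlat M) :
    FlatMod.IsFlatOver f M := fun x => by
  letI := FlatMod.moduleStalkOver f M x
  haveI : IsScalarTower (Y.presheaf.stalk (f.base x)) (X.presheaf.stalk x) (M.presheaf.stalk x) :=
    .of_algebraMap_smul fun _ _ => rfl
  haveI : Module.Flat (Y.presheaf.stalk (f.base x)) (X.presheaf.stalk x) := Flat.stalkMap f x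
  haveI : Module.Flat (X.presheaf.stalk x) (M.presheaf.stalk x) := h x
  exact Module.Flat.trans (Y.presheaf.stalk (f.base x)) (X.presheaf.stalk x) (M.presheaf.stalk x)

/-- Flatness over the base after a flat pullback. -/
theorem isFlatOver_pullback_of_flat {V : Scheme.{u}} (σ : V ⟶ X) [Flat σ] (f : X ⟶ Y) {M : X.Modules}
    (h : FlatMod.IsFlatOver f M) :
    FlatMod.IsFlatOver (σ ≫ f) ((Scheme.Modules.pullback σ).obj M) := fun v => by
  letI : Algebra (Y.presheaf.stalk (f.base (σ.base v))) (X.presheaf.stalk (σ.base v)) :=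
    H06Mod.stalkAlgebra f (σ.base v)
  letI : Algebra (X.presheaf.stalk (σ.base v)) (V.presheaf.stalk v) := H06Mod.stalkAlgebra σ v
  letI : Algebra (Y.presheaf.stalk (f.base (σ.base v))) (V.presheaf.stalk v) :=
    (f.stalkMap (σ.base v) ≫ σ.stalkMap v).hom.toAlgebra
  haveI : IsScalarTower (Y.presheaf.stalk (f.base (σ.base v))) (X.presheaf.stalk (σ.base v))
      (V.presheaf.stalk v) := .of_algebraMap_eq fun _ => rfl
  haveI : Module.Flat (X.presheaf.stalk (σ.base v)) (V.presheaf.stalk v) := Flat.stalkMap σ v
  letI := FlatMod.moduleStalkOver f M (σ.base v)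
  haveI : IsScalarTower (Y.presheaf.stalk (f.base (σ.base v))) (X.presheaf.stalk (σ.base v))
      (M.presheaf.stalk (σ.base v)) := .of_algebraMap_smul fun _ _ => rfl
  haveI : Module.Flat (Y.presheaf.stalk (f.base (σ.base v))) (M.presheaf.stalk (σ.base v)) := h (σ.base v)
  have hT := H06Mod.flat_tensor_of_flat (R := Y.presheaf.stalk (f.base (σ.base v)))
    (S := X.presheaf.stalk (σ.base v)) (T := V.presheaf.stalk v) (N := M.presheaf.stalk (σ.base v))
  letI : Module (Y.presheaf.stalk (f.base (σ.base v))) (((Scheme.Modules.pullback σ).obj M).presheaf.stalk v) :=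
    FlatMod.moduleStalkOver (σ ≫ f) _ v
  let e : (V.presheaf.stalk v ⊗[X.presheaf.stalk (σ.base v)] M.presheaf.stalk (σ.base v))
      ≃ₗ[Y.presheaf.stalk (f.base (σ.base v))] ((Scheme.Modules.pullback σ).obj M).presheaf.stalk v :=
    { (H06Mod.pullStalkEquiv σ M v).toAddEquiv with
      map_smul' := fun r t => by
        show H06Mod.pullStalkEquiv σ M v (r • t) = ((σ ≫ f).stalkMap v).hom r • H06Mod.pullStalkEquiv σ M v t
        rw [← algebraMap_smul (V.presheaf.stalk v) r t, map_smul, Scheme.Hom.stalkMap_comp]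
        rfl }
  show Module.Flat (Y.presheaf.stalk (f.base (σ.base v))) _
  exact Module.Flat.of_linearEquiv e.symm

/-- Flatness over the base is invariant under isomorphism. -/
theorem isFlatOverAt_of_iso {f : X ⟶ Y} {M N : X.Modules} (e : M ≅ N) {x : X}
    (h : FlatMod.IsFlatOverAt f M x) : FlatMod.IsFlatOverAt f N x := by
  letI := fun M : X.Modules => FlatMod.moduleStalkOver f M x
  haveI : ∀ M : X.Modules, IsScalarTower (Y.presheaf.stalk (f.base x)) (X.presheaf.stalk x) (M.presheaf.stalk x) :=
    fun M => .of_algebraMap_smul fun _ _ => rfl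
  haveI : Module.Flat (Y.presheaf.stalk (f.base x)) (M.presheaf.stalk x) := h
  let eₗ : (M.presheaf.stalk x) ≃ₗ[X.presheaf.stalk x] (N.presheaf.stalk x) :=
    ((DerSch.stalkFunctor X x).mapIso e).toLinearEquiv
  exact Module.Flat.of_linearEquiv (eₗ.restrictScalars (Y.presheaf.stalk (f.base x))).symm

variable {X' : Scheme.{u}} {f : X ⟶ Y} {g : Y' ⟶ Y} {g' : X' ⟶ X} {f' : X' ⟶ Y'}

/-- Base change of modules flat over the base. -/
theorem isFlatOver_pullback (h : IsPullback g' f' f g) {M : X.Modules} (hM : FlatMod.IsFlatOver f M) :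
    FlatMod.IsFlatOver f' ((Scheme.Modules.pullback g').obj M) := fun x' => by
  let σ := h.isoPullback
  have h1 := isFlatOver_pullback_of_flat σ.hom (pullback.snd f g)
    (M := (Scheme.Modules.pullback (pullback.fst f g)).obj M)
    (fun z => H06Mod.isFlatOverAt_baseChange f g M z (hM _)) x'
  rw [← H06Mod.isFlatOverAt_congr h.isoPullback_hom_snd]
  exact isFlatOverAt_of_iso ((Scheme.Modules.pullbackComp σ.hom (pullback.fst f g)).app M ≪≫
    (Scheme.Modules.pullbackCongr h.isoPullback_hom_fst).app M) h1

/-- Base change of bounded above exact complexes of modules flat over the base. -/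
theorem acyclic_pullback_of_isPullback (h : IsPullback g' f' f g) (W : CochainComplex X.Modules ℤ)
    (b : ℤ) (hb : ∀ i, b < i → IsZero (W.X i)) (hW : W.Acyclic)
    (hflat : ∀ i, FlatMod.IsFlatOver f (W.X i)) :
    (((Scheme.Modules.pullback g').mapHomologicalComplex (ComplexShape.up ℤ)).obj W).Acyclic := fun i => by
  let σ := h.isoPullback
  haveI := preservesFiniteLimits_pullback_of_flat σ.hom
  haveI : PreservesFiniteColimits (Scheme.Modules.pullback σ.hom) :=
    @PreservesColimitsOfSize.preservesFiniteColimits.{0, 0} _ _ _ _ _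
      (Scheme.Modules.pullbackPushforwardAdjunction σ.hom).leftAdjoint_preservesColimits
  have h1 := (HomologicalComplex.exactAt_iff' _ (i - 1) i (i + 1) (by simp) (by simp)).1
    (acyclic_pullback_of_flatOver f g W b hb hW hflat i)
  rw [HomologicalComplex.exactAt_iff' _ (i - 1) i (i + 1) (by simp) (by simp)]
  exact ShortComplex.exact_of_iso ((W.sc' (i - 1) i (i + 1)).mapNatIso
    ((Scheme.Modules.pullbackComp σ.hom (pullback.fst f g)) ≪≫
      (Scheme.Modules.pullbackCongr h.isoPullback_hom_fst))) (h1.map (Scheme.Modules.pullback σ.hom))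

/-- `Lg'^*` of a bounded complex of modules flat over the base is computed termwise. -/
theorem nonempty_lpull_of_flatOver (h : IsPullback g' f' f g) [Flat f] [DCoh.HasLpull g']
    (E : CochainComplex X.Modules ℤ) {a b : ℤ} (hE : DCoh.VanishesOutside E a b)
    (hflat : ∀ i, FlatMod.IsFlatOver f (E.X i)) :
    Nonempty ((DCoh.Lpull g').obj (DCoh.toD X E) ≅
      DCoh.toD X' (((Scheme.Modules.pullback g').mapHomologicalComplex (ComplexShape.up ℤ)).obj E)) := by
  haveI : E.IsStrictlyLE b := (CochainComplex.isStrictlyLE_iff _ _).2 fun i hi => hE i (Or.inr hi)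
  obtain ⟨P, α, hP, hPf, hα⟩ := exists_flat_resolution E b
  haveI := hP
  haveI := hα
  let W := CochainComplex.mappingCone α
  have hWf : ∀ i, FlatMod.IsFlatOver f (W.X i) := fun i =>
    isFlatOver_mid (S := (CochainComplex.mappingCone.triangleRotateShortComplex α).map
        (HomologicalComplex.eval X.Modules (ComplexShape.up ℤ) i))
      (CochainComplex.mappingCone.triangleRotateShortComplexSplitting α i).shortExact
      (hflat i) (isFlatOver_of_isFlat f (hPf (i + 1)))
  have hWb : ∀ i, b < i → IsZero (W.X i) := fun i hi =>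
    ((CochainComplex.mappingCone.triangleRotateShortComplexSplitting α i).shortExact.exact).isZero_of_both_zeros
      ((E.isZero_of_isStrictlyLE b i hi).eq_of_src _ _)
      ((P.isZero_of_isStrictlyLE b (i + 1) (by omega)).eq_of_tgt _ _)
  have hWa := (AcyclicLES.quasiIso_iff_acyclic_mappingCone α).1 hα
  have hq : QuasiIso (((Scheme.Modules.pullback g').mapHomologicalComplex (ComplexShape.up ℤ)).map α) :=
    (AcyclicLES.quasiIso_iff_acyclic_mappingCone _).2 (KFlat.acyclic_of_iso
      (CochainComplex.mappingCone.mapHomologicalComplexIso α (Scheme.Modules.pullback g'))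
      (acyclic_pullback_of_isPullback h W b hWb hWa hWf))
  haveI := isIso_Q_map _ hq
  haveI := isIso_Q_map α hα
  exact ⟨(DCoh.Lpull g').mapIso (asIso (DerivedCategory.Q.map α)).symm ≪≫
    lpullObjIso g' P (kflat_of_boundedAbove P b (fun q hq => P.isZero_of_isStrictlyLE b q hq) hPf) ≪≫
    asIso (DerivedCategory.Q.map (((Scheme.Modules.pullback g').mapHomologicalComplex (ComplexShape.up ℤ)).map α))⟩

/-- Base change preserves finite tor dimension over the base. -/
theorem locHasFiniteRelTorDim_lpull (h : IsPullback g' f' f g) [Flat f] [DCoh.HasLpull g'] {K : DCoh.D X}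
    (hK : DCoh.LocHasFiniteRelTorDim f K) :
    DCoh.LocHasFiniteRelTorDim f' ((DCoh.Lpull g').obj K) := fun x' => by
  obtain ⟨V, a, b, hx, hV⟩ := hK (g'.base x')
  obtain ⟨P, hP, ⟨eP⟩⟩ := exists_kflat_rep K
  obtain ⟨E, hE, hflat, ⟨e⟩⟩ := hV P ⟨eP⟩
  refine ⟨g' ⁻¹ᵁ V, a, b, hx, fun F ⟨eF⟩ => ?_⟩
  have hsq : IsPullback (g' ∣_ V) ((g' ⁻¹ᵁ V).ι ≫ f') (V.ι ≫ f) g :=
    (isPullback_morphismRestrict g' V).paste_vert h
  haveI := hasLpull (g' ∣_ V)
  obtain ⟨i⟩ := nonempty_lpull_of_flatOver hsq E hE hflat
  refine ⟨((Scheme.Modules.pullback (g' ∣_ V)).mapHomologicalComplex (ComplexShape.up ℤ)).obj E,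
    fun j hj => (Scheme.Modules.pullback (g' ∣_ V)).map_isZero (hE j hj),
    fun j => isFlatOver_pullback hsq (hflat j), ⟨?_⟩⟩
  exact i.symm ≪≫ (DCoh.Lpull (g' ∣_ V)).mapIso e ≪≫
    lpullObjIso (g' ∣_ V) _ (kflat_restrict V hP) ≪≫ (restrictLpullIso g' V hP eP eF).symm

end Scheme

end Groth.Agent.H16Derived.BaseChange
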