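import Groth.Agent.H16Derived.BaseChange.FinitePC
import Groth.Agent.H16Derived.TorTest.TorDimLoc
import Groth.Agent.H16Derived.KFlat.PerfCoh
import Groth.Agent.H16Derived.KFlat.PerfAmp
import Groth.Agent.H10Coh.SheafHom.Flat
import Groth.Agent.H10Coh.AffineLeray

/-!
# Direct images of acyclic bundles along proper flat morphisms, over an arbitrary base
-/

set_option autoImplicit false
set_option linter.style.haveILetI false
set_option backward.isDefEq.respectTransparency false

universe u

open CategoryTheory CategoryTheory.Limits AlgebraicGeometry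
open Groth.Agent.H16Derived Groth.Agent.H16Derived.KFlat Groth.Agent.H16Derived.KFlat.Stalk
open Groth.Agent.H4DR.TorAmp

attribute [local instance] HasDerivedCategory.standard
attribute [local instance 10000] Groth.Agent.H10Coh.hasSheafifyAb Groth.Agent.H10Coh.hasWeakSheafifyAb Groth.Agent.H10Coh.hasExtAb Groth.Agent.H10Coh.enoughInjAb

namespace Groth.Agent.H16Derived.BaseChange

open TorTest

variable {X S : Scheme.{u}}

/-- The direct image of an acyclic bundle along a proper flat morphism is a bundle. -/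
theorem finLocFree_pushforward_of_acyclic (f : X ⟶ S) [IsProper f] [Flat f] [LocallyOfFinitePresentation f]
    {F : X.Modules} (hF : FlatMod.IsFinLocFree F)
    (hvan : ∀ i : ℕ, 1 ≤ i → IsZero ((Coh.RpushAb f i).obj (Coh.toAb F))) :
    FlatMod.IsFinLocFree ((Scheme.Modules.pushforward f).obj F) := by
  haveI := QCohD.hasRpush f
  haveI := QCohD.hasInjectiveResolutions_modules (X := X)
  have hz : ∀ i : ℕ, 1 ≤ i → IsZero ((Coh.Rpush f i).obj F) := fun i hi => by
    obtain ⟨e⟩ := H10Coh.nonempty_toAb_rpush (M := F) (f := f) i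
    have h : IsZero ((H10Coh.shF S).obj ((Coh.Rpush f i).obj F)) := (hvan i hi).of_iso e
    rw [IsZero.iff_id_eq_zero] at h ⊢
    apply (H10Coh.shF S).map_injective
    rw [CategoryTheory.Functor.map_id, Functor.map_zero]
    exact h
  let F₀ := (HomologicalComplex.single X.Modules (ComplexShape.up ℤ) 0).obj F
  let eF : DCoh.toD X F₀ ≅ DCoh.inD X F := ((DerivedCategory.singleFunctorIsoCompQ X.Modules 0).app F).symm
  let E := DCoh.inD X F
  let R := (DCoh.Rpush f).obj E
  have hqF : Coh.IsQCoh F := H8Props.FinLocFree.isQCoh_of_isFinLocFree _ hF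
  have hflat : ∀ i, FlatMod.IsFlatOver f (F₀.X i) := fun i => by
    refine H10Coh.SheafHom.isFlatOver_of_isFinLocFree f _ ?_
    by_cases hi : i = 0
    · subst hi
      exact isFinLocFree_of_iso (HomologicalComplex.singleObjXSelf (ComplexShape.up ℤ) _ F).symm hF
    · exact isFinLocFree_of_isZero (HomologicalComplex.isZero_single_obj_X _ _ _ _ hi)
  have hv : DCoh.VanishesOutside F₀ 0 0 := fun i hi =>
    HomologicalComplex.isZero_single_obj_X _ _ _ _ (by omega)
  have hta := hasTorAmplitude_of_flat (f := f) F₀ hv hflat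
  have hqc : DCoh.IsQCohD (DCoh.toD X F₀) := QCohD.isQCohD_iso eF.symm (isQCohD_inD hqF)
  obtain ⟨K, -, -, ⟨eK⟩⟩ := Dual.exists_rep ((DCoh.Rpush f).obj (DCoh.toD X F₀))
  -- amplitude near every point
  have hamp : ∀ s : S, ∃ N : ℕ, DerSch.HasTorAmplitudeAt (𝟙 S) 0 N K s := fun s => by
    obtain ⟨W, hs, -, hW⟩ := exists_nbhd f (𝟙 S) f F₀ (Category.comp_id f) hqc s
    obtain ⟨N, hN⟩ := hW 0 0 fun x _ => hta x
    exact ⟨N, at_mono le_rfl (by omega) (hN K ⟨eK⟩ s hs)⟩
  have hneg : ∀ i : ℤ, i < 0 → IsZero (DCoh.HD (DCoh.toD S K) i) := fun i hi => by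
    refine IsZero.of_iso ?_ ((DerivedCategory.homologyFunctorFactors S.Modules i).app K)
    refine (ShortComplex.exact_iff_isZero_homology _).1 ((exact_iff _).2 fun s => ?_)
    obtain ⟨N, hN⟩ := hamp s
    have h0 : ((DerSch.stalkCxOver (𝟙 S) s).obj K).ExactAt i := by
      refine (HomologicalComplex.exactAt_iff_isZero_homology _ _).2 ?_
      haveI := bound_of_ta hN i (Or.inl hi)
      exact (ModuleCat.isZero_of_iff_subsingleton.2 inferInstance).of_iso
        ((DerivedCategory.homologyFunctorFactors _ i).app _).symm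
    exact (HomologicalComplex.exactAt_iff _ _).1
      ((exactAt_res_iff ((𝟙 S : S ⟶ S).stalkMap s).hom ((Sx s).obj K) i).1 h0)
  let eR : DCoh.toD S K ≅ R := eK ≪≫ (DCoh.Rpush f).mapIso eF
  have hzero : ∀ i : ℤ, i ≠ 0 → IsZero (DCoh.HD R i) := fun i hi => by
    rcases lt_or_gt_of_ne hi with h | h
    · exact (hneg i h).of_iso ((DerivedCategory.homologyFunctor S.Modules i).mapIso eR.symm)
    · obtain ⟨p, rfl⟩ := Int.eq_ofNat_of_zero_le h.le
      obtain ⟨e⟩ := QCohD.nonempty_hd_rpush_single f F p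
      exact (hz p (by omega)).of_iso e
  obtain ⟨e₀⟩ := QCohD.nonempty_hd_rpush_single f F 0
  let M := (Scheme.Modules.pushforward f).obj F
  let eM : DCoh.HD R 0 ≅ M := e₀ ≪≫ (Scheme.Modules.pushforward f).rightDerivedZeroIsoSelf.app F
  haveI : R.IsGE 0 := (DerivedCategory.isGE_iff _ _).2 fun i hi => hzero i (by omega)
  haveI : R.IsLE 0 := (DerivedCategory.isLE_iff _ _).2 fun i hi => hzero i (by omega)
  obtain ⟨Y, ⟨eY⟩⟩ := DerivedCategory.exists_iso_singleFunctor_obj_of_isGE_of_isLE R 0
  let eYM : Y ≅ M := ((DerivedCategory.singleFunctorCompHomologyFunctorIso S.Modules 0).app Y).symm ≪≫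
    (DerivedCategory.homologyFunctor S.Modules 0).mapIso eY.symm ≪≫ eM
  let eMK : DCoh.toD S ((HomologicalComplex.single S.Modules (ComplexShape.up ℤ) 0).obj M) ≅ DCoh.toD S K :=
    ((DerivedCategory.singleFunctorIsoCompQ S.Modules 0).app M).symm ≪≫
      (DerivedCategory.singleFunctor S.Modules 0).mapIso eYM.symm ≪≫ eY.symm ≪≫ eR.symm
  refine isFinLocFree_of_isFP_flat ?_ fun s => ?_
  · have hpc := isPseudoCoherentD_rpush f (E := E)
      (isPseudoCoherentD_of_isPerfect (isPerfect_of_iso eF (isPerfect_toD ⟨⟨0, 0, fun i hi => hv i (by omega)⟩, fun i => by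
        by_cases hi : i = 0
        · subst hi
          exact isFinLocFree_of_iso (HomologicalComplex.singleObjXSelf (ComplexShape.up ℤ) _ F).symm hF
        · exact isFinLocFree_of_isZero (HomologicalComplex.isZero_single_obj_X _ _ _ _ hi)⟩))) (-1)
    exact isFP_of_iso eM (isFP_HD_of_pc hpc fun i hi => hzero i (by omega))
  · obtain ⟨N, hN⟩ := hamp s
    let e := DerivedCategory.Q.mapIso
        ((NatIso.mapHomologicalComplex (stalkOverIdIso s) (ComplexShape.up ℤ)).app
            ((HomologicalComplex.single S.Modules (ComplexShape.up ℤ) 0).obj M) ≪≫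
          (HomologicalComplex.singleMapHomologicalComplex (DerSch.stalkFunctor S s) (ComplexShape.up ℤ) 0).app M) ≪≫
      ((DerivedCategory.singleFunctorIsoCompQ (ModuleCat.{u} (S.presheaf.stalk s)) 0).app _).symm
    have h1 : DRing.HasTorAmplitudeIn (S.presheaf.stalk s) 0 N
        (Dual.inD (S.presheaf.stalk s) ((DerSch.stalkFunctor S s).obj M)) :=
      ta_of_iso e (ta_of_iso (stalkOverIso (𝟙 S) s eMK.symm) hN)
    exact flat_of_ta _ (ta_top h1 fun i hi => H4DR.PCoh.subsingleton_HD_inD _ i (by omega))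

end Groth.Agent.H16Derived.BaseChange
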