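import Groth.Agent.H16Derived.BaseChange.AffinePoint
import Groth.Agent.H16Derived.BaseChange.TriIso
import Groth.Agent.H16Derived.QCohD.RpushCoprod
import Groth.Agent.H16Derived.QCoprod
import Groth.Agent.H25DTen.Generate

/-!
# Tor independent base change between affine schemes
-/

set_option autoImplicit false
set_option linter.style.haveILetI false
set_option backward.isDefEq.respectTransparency false

universe u

open CategoryTheory CategoryTheory.Limits AlgebraicGeometry CategoryTheory.Pretriangulated

attribute [local instance] HasDerivedCategory.standard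

namespace Groth.Agent.H16Derived.BaseChange

open Groth.Agent.H16Derived.KFlat Groth.Agent.H16Derived.KFlat.Stalk

/-- A natural transformation invertible at the summands is invertible at a coproduct that both
functors preserve. -/
theorem isIso_app_of_cofan {C D : Type*} [Category C] [Category D] {F G : C ⥤ D} (τ : F ⟶ G)
    {ι : Type*} {K : ι → C} {P : C} {inj : ∀ i, K i ⟶ P} (hc : IsColimit (Cofan.mk P inj))
    [PreservesColimit (Discrete.functor K) F] [PreservesColimit (Discrete.functor K) G]
    (h : ∀ i, IsIso (τ.app (K i))) : IsIso (τ.app P) := by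
  let cF := isColimitCofanMkObjOfIsColimit F _ _ hc
  let cG := isColimitCofanMkObjOfIsColimit G _ _ hc
  refine ⟨Cofan.IsColimit.desc cG fun i => inv (τ.app (K i)) ≫ F.map (inj i),
    Cofan.IsColimit.hom_ext cF _ _ fun i => ?_, Cofan.IsColimit.hom_ext cG _ _ fun i => ?_⟩
  · have hn := τ.naturality (inj i)
    have hd := Cofan.IsColimit.fac cG (fun i => inv (τ.app (K i)) ≫ F.map (inj i)) i
    simp only [Cofan.inj, Cofan.mk_ι_app] at hn hd ⊢
    erw [← Category.assoc, hn, Category.assoc, hd, IsIso.hom_inv_id_assoc, Category.comp_id]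
  · have hn := τ.naturality (inj i)
    have hd := Cofan.IsColimit.fac cG (fun i => inv (τ.app (K i)) ≫ F.map (inj i)) i
    simp only [Cofan.inj, Cofan.mk_ι_app] at hn hd ⊢
    erw [← Category.assoc, hd, Category.assoc, hn, IsIso.inv_hom_id_assoc, Category.comp_id]

theorem preservesCoproduct_rpush {X Y : Scheme.{u}} (f : X ⟶ Y) [DCoh.HasRpush f] [QuasiCompact f]
    [QuasiSeparated f] {ι : Type u} (K : ι → DCoh.D X) (hK : ∀ i, DCoh.IsQCohD (K i)) :
    PreservesColimit (Discrete.functor K) (DCoh.Rpush f) := by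
  haveI := Thomason.hasCoproducts_D X
  haveI := Thomason.hasCoproducts_D Y
  haveI : IsIso (sigmaComparison (DCoh.Rpush f) K) := QCohD.isIso_rpush_sigma f K hK
  exact PreservesCoproduct.of_iso_comparison _ _

variable (A A' B B' : Type u) [CommRing A] [CommRing A'] [CommRing B] [CommRing B'] [Algebra A A']
  [Algebra A B] [Algebra A' B'] [Algebra B B'] [Algebra A B'] [IsScalarTower A A' B']
  [IsScalarTower A B B']

/-- Base change on affine schemes. -/
theorem bc_spec [Algebra.IsPushout A A' B B']
    (htor : ∀ p : ℕ, 0 < p → Subsingleton (DRing.Tor A p A' B)) :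
    BC (Spec.map (CommRingCat.ofHom (algebraMap A B))) (Spec.map (CommRingCat.ofHom (algebraMap A' B')))
      (Spec.map (CommRingCat.ofHom (algebraMap A A'))) (Spec.map (CommRingCat.ofHom (algebraMap B B'))) := by
  let f := Spec.map (CommRingCat.ofHom (algebraMap A B))
  let f' := Spec.map (CommRingCat.ofHom (algebraMap A' B'))
  let g := Spec.map (CommRingCat.ofHom (algebraMap A A'))
  let g' := Spec.map (CommRingCat.ofHom (algebraMap B B'))
  haveI := hasLpull f
  haveI := QCohD.hasRpush f
  haveI := hasLpull f'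
  haveI := QCohD.hasRpush f'
  haveI := hasLpull g
  haveI := hasLpull g'
  refine bc_of_can fun φ E hE => ?_
  let F₁ := DCoh.Rpush f ⋙ DCoh.Lpull g
  let F₂ := DCoh.Lpull g' ⋙ DCoh.Rpush f'
  let τ : F₁ ⟶ F₂ := bc (lpullRpushAdj f) (lpullRpushAdj f') φ.hom
  letI := rpushCommShift f
  haveI := rpush_isTriangulated f
  letI := rpushCommShift f'
  haveI := rpush_isTriangulated f'
  letI := lpullCommShift g
  haveI := lpull_isTriangulated g
  letI := lpullCommShift g'
  haveI := lpull_isTriangulated g'
  let TB := DCoh.tildeD (CommRingCat.of B)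
  suffices key : ∀ (M : Dual.D B) (n : ℤ), IsIso (τ.app ((TB.obj M)⟦n⟧)) by
    obtain ⟨M, ⟨e⟩⟩ := QCohD.exists_tildeD_iso (R := CommRingCat.of B) hE
    haveI := key M 0
    exact (NatTrans.isIso_app_iff_of_iso τ ((shiftFunctorZero (DCoh.D _) ℤ).app _ ≪≫ e)).1 this
  refine H25DTen.localizing_induction (fun M => ∀ n : ℤ, IsIso (τ.app ((TB.obj M)⟦n⟧))) ?_ ?_ ?_ ?_
  · intro K L i r hir hL n
    haveI := hL n
    let i' := (TB.map i)⟦n⟧'
    let r' := (TB.map r)⟦n⟧'
    have h : i' ≫ r' = 𝟙 _ := by
      rw [← Functor.map_comp, ← Functor.map_comp, hir, CategoryTheory.Functor.map_id,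
        CategoryTheory.Functor.map_id]
    refine ⟨F₂.map i' ≫ inv (τ.app _) ≫ F₁.map r', ?_, ?_⟩
    · rw [← Category.assoc, ← τ.naturality, Category.assoc, IsIso.hom_inv_id_assoc, ← F₁.map_comp, h,
        F₁.map_id]
    · rw [Category.assoc, Category.assoc, τ.naturality r', IsIso.inv_hom_id_assoc, ← F₂.map_comp, h,
        F₂.map_id]
  · exact fun T hT h₁ h₃ n => isIso_shift_ext τ (TB.mapTriangle.obj T) (TB.map_distinguished _ hT) h₁ h₃ n
  · intro ι K hK n
    haveI : (moduleSpecΓFunctor (R := CommRingCat.of B)).Additive :=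
      (tilde.adjunction (R := CommRingCat.of B)).right_adjoint_additive
    haveI : ((tf B).mapHomologicalComplex (ComplexShape.up ℤ)).IsLeftAdjoint :=
      (mapHomologicalComplexAdj (tilde.adjunction (R := CommRingCat.of B)) (ComplexShape.up ℤ)).isLeftAdjoint
    let C := fun i => ((tf B).mapHomologicalComplex (ComplexShape.up ℤ)).obj (K i)
    haveI := QCoprod.preservesColimit_Q C
    let c := isColimitCofanMkObjOfIsColimit (shiftFunctor (DCoh.D (Spec (CommRingCat.of B))) n) _ _
      (isColimitCofanMkObjOfIsColimit DerivedCategory.Q _ _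
        (isColimitCofanMkObjOfIsColimit ((tf B).mapHomologicalComplex (ComplexShape.up ℤ)) _ _
          (coproductIsCoproduct K)))
    let e : ∀ L : DRing.Cx B, (TB.obj (DerivedCategory.Q.obj L))⟦n⟧ ≅
        (DerivedCategory.Q.obj (((tf B).mapHomologicalComplex (ComplexShape.up ℤ)).obj L))⟦n⟧ := fun L =>
      (shiftFunctor (DCoh.D (Spec (CommRingCat.of B))) n).mapIso ((tf B).mapDerivedCategoryFactors.app L)
    let K' := fun i => (DerivedCategory.Q.obj (C i))⟦n⟧
    have hq : ∀ i, DCoh.IsQCohD (K' i) := fun i =>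
      QCohD.isQCohD_iso (e (K i)) fun m => QCohD.isQCoh_iso
        (((DerivedCategory.homologyFunctor _ 0).shiftIso n m (n + m) rfl).app _).symm
        (QCohD.isQCohD_tildeD (CommRingCat.of B) (DerivedCategory.Q.obj (K i)) (n + m))
    haveI := preservesCoproduct_rpush f K' hq
    haveI : PreservesColimit (Discrete.functor K') F₁ := by
      haveI : (DCoh.Lpull g).IsLeftAdjoint := by
        haveI := QCohD.hasRpush g
        exact (lpullRpushAdj g).isLeftAdjoint
      infer_instance
    haveI : PreservesColimit (Discrete.functor K') F₂ := by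
      haveI : (DCoh.Lpull g').IsLeftAdjoint := by
        haveI := QCohD.hasRpush g'
        exact (lpullRpushAdj g').isLeftAdjoint
      haveI := preservesCoproduct_rpush f' (fun i => (DCoh.Lpull g').obj (K' i))
        fun i => QCohD.isQCohD_lpull g' (hq i)
      haveI : PreservesColimit (Discrete.functor ((DCoh.Lpull g').obj ∘ K')) (DCoh.Rpush f') :=
        ‹PreservesColimit (Discrete.functor fun i => (DCoh.Lpull g').obj (K' i)) (DCoh.Rpush f')›
      haveI : PreservesColimit (Discrete.functor K' ⋙ DCoh.Lpull g') (DCoh.Rpush f') :=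
        preservesColimit_of_iso_diagram _ (Discrete.compNatIsoDiscrete K' (DCoh.Lpull g')).symm
      exact @Limits.comp_preservesColimit _ _ _ _ _ _ _ _ _ _ _ inferInstance ‹_›
    haveI := isIso_app_of_cofan τ c fun i => (NatTrans.isIso_app_iff_of_iso τ (e (K i))).1 (hK i n)
    exact (NatTrans.isIso_app_iff_of_iso τ (e (∐ K))).2 this
  · intro k n
    let eS : (TB.obj (H25DTen.S B k))⟦n⟧ ≅ (Tn B (k + n)).obj (ModuleCat.of B B) :=
      (shiftFunctor (DCoh.D (Spec (CommRingCat.of B))) n).mapIso
        ((tf B).mapDerivedCategoryFactors.app _ ≪≫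
          (Functor.commShiftIso ((tf B).mapHomologicalComplex (ComplexShape.up ℤ) ⋙ DerivedCategory.Q) k).app _) ≪≫
      ((shiftFunctorAdd (DCoh.D (Spec (CommRingCat.of B))) k n).app _).symm
    exact (NatTrans.isIso_app_iff_of_iso τ eS).2 (isIso_bcApp_point A A' B B' htor φ _)

end Groth.Agent.H16Derived.BaseChange
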