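import Groth.Agent.H16Derived.BaseChange.Square
import Groth.Agent.H16Derived.BaseChange.AffineSingle
import Mathlib.RingTheory.IsTensorProduct

/-!
# Tor independent base change for the structure sheaf on affine schemes
-/

set_option autoImplicit false
set_option linter.style.haveILetI false
set_option backward.isDefEq.respectTransparency false

universe u

open CategoryTheory CategoryTheory.Limits AlgebraicGeometry
open scoped TensorProduct

attribute [local instance] HasDerivedCategory.standard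

namespace Groth.Agent.H16Derived.BaseChange

open Groth.Agent.H16Derived.KFlat Groth.Agent.H16Derived.KFlat.Stalk

/-- The shifted module functor. -/
noncomputable abbrev Tn (A : Type u) [CommRing A] (n : ℤ) :
    ModuleCat.{u} A ⥤ DCoh.D (Spec (CommRingCat.of A)) :=
  T₀ A ⋙ shiftFunctor _ n

variable {A B : Type u} [CommRing A] [CommRing B]

instance (n : ℤ) : (Tn A n).Full := Functor.Full.comp _ _
instance (n : ℤ) : (Tn A n).Faithful := Functor.Faithful.comp _ _

variable (φ : A →+* B)

/-- `Θ₀` shifted. -/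
noncomputable def Θn [DCoh.HasLpull (Spec.map (CommRingCat.ofHom φ))] (n : ℤ) :
    Tn A n ⋙ DCoh.Lpull (Spec.map (CommRingCat.ofHom φ)) ⟶ ModuleCat.extendScalars.{u, u, u} φ ⋙ Tn B n :=
  letI := lpullCommShift (Spec.map (CommRingCat.ofHom φ))
  (Functor.associator _ _ _).hom ≫
    Functor.whiskerLeft (T₀ A) ((DCoh.Lpull (Spec.map (CommRingCat.ofHom φ))).commShiftIso n).hom ≫
    (Functor.associator _ _ _).inv ≫ Functor.whiskerRight (Θ₀ φ) (shiftFunctor _ n) ≫
    (Functor.associator _ _ _).hom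

theorem isIso_Θn [DCoh.HasLpull (Spec.map (CommRingCat.ofHom φ))] (n : ℤ) (N : ModuleCat.{u} A)
    (h : IsIso ((Θ₀ φ).app N)) : IsIso ((Θn φ n).app N) := by
  simp only [Θn, NatTrans.comp_app, Functor.associator_hom_app, Functor.associator_inv_app, Functor.whiskerRight_app,
    Functor.whiskerLeft_app]
  infer_instance

/-- `Ψ₀` shifted, as an isomorphism. -/
noncomputable def Ψn [DCoh.HasRpush (Spec.map (CommRingCat.ofHom φ))] (n : ℤ) :
    Tn B n ⋙ DCoh.Rpush (Spec.map (CommRingCat.ofHom φ)) ≅ ModuleCat.restrictScalars.{u} φ ⋙ Tn A n :=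
  letI := rpushCommShift (Spec.map (CommRingCat.ofHom φ))
  haveI := isIso_Ψ₀ φ
  Functor.associator _ _ _ ≪≫
    Functor.isoWhiskerLeft (T₀ B) ((DCoh.Rpush (Spec.map (CommRingCat.ofHom φ))).commShiftIso n) ≪≫
    (Functor.associator _ _ _).symm ≪≫ Functor.isoWhiskerRight (asIso (Ψ₀ φ)).symm (shiftFunctor _ n) ≪≫
    Functor.associator _ _ _

/-- Extension of scalars of the ring is the ring. -/
noncomputable def extSelfIso [Algebra A B] :
    (ModuleCat.extendScalars.{u, u, u} (algebraMap A B)).obj (ModuleCat.of A A) ≅ ModuleCat.of B B :=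
  ((H26Tor.extendEquiv (A' := B) (ModuleCat.of A A)).symm ≪≫ₗ
    (Algebra.TensorProduct.rid A B B).toLinearEquiv).toModuleIso

/-- The structure sheaf is flat, so pulls back to itself. -/
theorem isIso_Θ₀_self [Algebra A B] [DCoh.HasLpull (Spec.map (CommRingCat.ofHom (algebraMap A B)))] :
    IsIso ((Θ₀ (algebraMap A B)).app (ModuleCat.of A A)) := by
  refine isIso_Θ₀ (A := A) (B := B) _ fun p hp => ?_
  obtain ⟨k, rfl⟩ := Nat.exists_eq_succ_of_ne_zero hp.ne'
  exact ModuleCat.subsingleton_of_isZero (isZero_Tor_succ_of_projective (ModuleCat.{u} A) (ModuleCat.of A B) (ModuleCat.of A A) k)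

section Square

variable (A A' B B' : Type u) [CommRing A] [CommRing A'] [CommRing B] [CommRing B'] [Algebra A A']
  [Algebra A B] [Algebra A' B'] [Algebra B B'] [Algebra A B'] [IsScalarTower A A' B']
  [IsScalarTower A B B']

/-- A linear map `A' ⊗ B ⟶ B'` compatible with multiplication by `B`, taking a generator to a
generator, is bijective when the square is a pushout. -/
theorem bijective_of_generators [Algebra.IsPushout A A' B B']
    (m : (ModuleCat.extendScalars.{u, u, u} (algebraMap A A')).obj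
          ((ModuleCat.restrictScalars.{u} (algebraMap A B)).obj (ModuleCat.of B B)) ⟶
        (ModuleCat.restrictScalars.{u} (algebraMap A' B')).obj
          ((ModuleCat.extendScalars.{u, u, u} (algebraMap B B')).obj (ModuleCat.of B B)))
    (hm : ∀ b : ModuleCat.of B B ⟶ ModuleCat.of B B,
      (ModuleCat.extendScalars.{u, u, u} (algebraMap A A')).map
          ((ModuleCat.restrictScalars.{u} (algebraMap A B)).map b) ≫ m =
        m ≫ (ModuleCat.restrictScalars.{u} (algebraMap A' B')).map
          ((ModuleCat.extendScalars.{u, u, u} (algebraMap B B')).map b))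
    (v : ModuleCat.of A A ⟶ (ModuleCat.restrictScalars.{u} (algebraMap A B)).obj (ModuleCat.of B B))
    (hv : Function.Surjective fun b : ModuleCat.of B B ⟶ ModuleCat.of B B =>
      v ≫ (ModuleCat.restrictScalars.{u} (algebraMap A B)).map b)
    (he : Function.Surjective fun b : (ModuleCat.extendScalars.{u, u, u} (algebraMap B B')).obj (ModuleCat.of B B) ⟶
        (ModuleCat.extendScalars.{u, u, u} (algebraMap B B')).obj (ModuleCat.of B B) =>
      ((ModuleCat.extendScalars.{u, u, u} (algebraMap A A')).map v ≫ m) ≫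
        (ModuleCat.restrictScalars.{u} (algebraMap A' B')).map b) :
    IsIso m := by
  let L : (ModuleCat.extendScalars.{u, u, u} (algebraMap B B')).obj (ModuleCat.of B B) ≃ₗ[B'] B' :=
    (extSelfIso (A := B) (B := B')).toLinearEquiv
  have hL' : ∀ (c : B') (y : B), L (H26Tor.extendEquiv (A' := B') (ModuleCat.of B B) (c ⊗ₜ y)) = y • c :=
    fun c y => by
      show (Algebra.TensorProduct.rid B B' B')
        ((H26Tor.extendEquiv (A' := B') (ModuleCat.of B B)).symm _) = _
      rw [LinearEquiv.symm_apply_apply, Algebra.TensorProduct.rid_tmul]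
  have hL : ∀ c : B', L (H26Tor.extendEquiv (A' := B') (ModuleCat.of B B) (c ⊗ₜ (1 : B))) = c :=
    fun c => (hL' c 1).trans (one_smul B c)
  let M := (ModuleCat.restrictScalars.{u} (algebraMap A B)).obj (ModuleCat.of B B)
  let T : A' ⊗[A] (M : Type u) ≃ₗ[A'] (ModuleCat.extendScalars.{u, u, u} (algebraMap A A')).obj M :=
    H26Tor.extendEquiv (A' := A') M
  let μ : A' ⊗[A] (M : Type u) →+ B' :=
    L.toAddEquiv.toAddMonoidHom.comp (m.hom.toAddMonoidHom.comp T.toAddEquiv.toAddMonoidHom)
  have hμ : ∀ (a : A') (z : (ModuleCat.extendScalars.{u, u, u} (algebraMap A A')).obj M),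
      L (m.hom (a • z)) = algebraMap A' B' a * L (m.hom z) := fun a z => by
    rw [map_smul]
    exact (L.map_smul (algebraMap A' B' a) (m.hom z)).trans rfl
  have hb : ∀ (c x : B), L (m.hom (T ((1 : A') ⊗ₜ (c * x : B)))) =
      algebraMap B B' c * L (m.hom (T ((1 : A') ⊗ₜ x))) := fun c x => by
    let mb : ModuleCat.of B B ⟶ ModuleCat.of B B := ModuleCat.ofHom (LinearMap.mulLeft B c)
    have h := ConcreteCategory.congr_hom (hm mb) (T ((1 : A') ⊗ₜ x))
    have key : ∀ w : (ModuleCat.extendScalars.{u, u, u} (algebraMap B B')).obj (ModuleCat.of B B),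
        L ((ModuleCat.extendScalars.{u, u, u} (algebraMap B B')).map mb w) = algebraMap B B' c * L w := by
      intro w
      obtain ⟨t, rfl⟩ := (H26Tor.extendEquiv (A' := B') (ModuleCat.of B B)).surjective w
      induction t using TensorProduct.induction_on with
      | zero => simp
      | add t t' ht ht' => simp only [map_add, ht, ht', mul_add]
      | tmul s y =>
        change L (H26Tor.extendEquiv (A' := B') (ModuleCat.of B B) (s ⊗ₜ[B] (c * y))) = _
        erw [hL', hL']
        simp [Algebra.smul_def, mul_assoc]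
    exact (congrArg L h).trans (key _)
  let u₀ : B := v.hom (1 : A)
  let idM : B →ₗ[A] (M : Type u) :=
    { toFun := fun x => x, map_add' := fun _ _ => rfl, map_smul' := fun a x => Algebra.smul_def a x }
  let x₀ : ModuleCat.of A A ⟶ M := @ModuleCat.ofHom A _ A (M : Type u) _ _ _ M.isModule (idM.comp (Algebra.linearMap A B))
  obtain ⟨b₁, hb₁⟩ := hv x₀
  let c₁ : B := b₁.hom (1 : B)
  have hc₁ : c₁ * u₀ = 1 := by
    have h := ConcreteCategory.congr_hom hb₁ (1 : A)
    have h' : b₁.hom (u₀ • (1 : B)) = 1 := by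
      rw [smul_eq_mul, mul_one]
      exact h.trans (map_one (algebraMap A B))
    rw [map_smul, smul_eq_mul, mul_comm] at h'
    exact h'
  let E₀ : B' := L (m.hom (T ((1 : A') ⊗ₜ u₀)))
  let N' := (ModuleCat.restrictScalars.{u} (algebraMap A' B')).obj
    ((ModuleCat.extendScalars.{u, u, u} (algebraMap B B')).obj (ModuleCat.of B B))
  let x₁ : (N' : Type u) := H26Tor.extendEquiv (A' := B') (ModuleCat.of B B) ((1 : B') ⊗ₜ (1 : B))
  let x₂ : ModuleCat.of A' A' ⟶ N' := @ModuleCat.ofHom A' _ A' (N' : Type u) _ _ _ N'.isModule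
    (@LinearMap.toSpanSingleton A' (N' : Type u) _ _ N'.isModule x₁)
  obtain ⟨b₂, hb₂⟩ := he ((extSelfIso (A := A) (B := A')).hom ≫ x₂)
  let c₂ : B' := L (b₂.hom (L.symm 1))
  have hc₂ : c₂ * E₀ = 1 := by
    have h := ConcreteCategory.congr_hom hb₂ (H26Tor.extendEquiv (A' := A') (ModuleCat.of A A) ((1 : A') ⊗ₜ (1 : A)))
    have h1 : L (b₂.hom (m.hom (T ((1 : A') ⊗ₜ u₀)))) = 1 := by
      refine (congrArg L h).trans ((congrArg L ?_).trans (hL 1))
      show N'.isModule.toSMul.smul ((Algebra.TensorProduct.rid A A' A') ((H26Tor.extendEquiv (A' := A') (ModuleCat.of A A)).symm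
        (H26Tor.extendEquiv (A' := A') (ModuleCat.of A A) ((1 : A') ⊗ₜ (1 : A))))) x₁ = x₁
      rw [LinearEquiv.symm_apply_apply, Algebra.TensorProduct.rid_tmul, one_smul]
      exact @one_smul A' (N' : Type u) _ N'.isModule.toMulAction x₁
    have h2 : m.hom (T ((1 : A') ⊗ₜ u₀)) = E₀ • L.symm (1 : B') := by
      apply L.injective
      rw [map_smul, L.apply_symm_apply, smul_eq_mul, mul_one]
    rw [h2, map_smul, map_smul, smul_eq_mul, mul_comm] at h1
    exact h1
  let w : B' := algebraMap B B' c₁ * E₀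
  have hw : IsUnit w := by
    refine IsUnit.mul ((IsUnit.of_mul_eq_one _ hc₁).map _) (IsUnit.of_mul_eq_one c₂ ?_)
    rw [mul_comm]; exact hc₂
  let e := Algebra.IsPushout.equiv A A' B B'
  have hμe : ∀ t : A' ⊗[A] B, μ (LinearMap.lTensor A' idM t) = e t * w := by
    intro t
    induction t using TensorProduct.induction_on with
    | zero => simp
    | add t t' ht ht' => simp only [map_add, ht, ht', add_mul]
    | tmul a b =>
      rw [LinearMap.lTensor_tmul, Algebra.IsPushout.equiv_tmul]
      show L (m.hom (T (a ⊗ₜ b))) = _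
      have e1 : T (a ⊗ₜ b) = a • T ((1 : A') ⊗ₜ b) := by
        show T (a ⊗ₜ b) = T ((a * 1) ⊗ₜ b)
        rw [mul_one]
      have e2 : b = b * c₁ * u₀ := by rw [mul_assoc, hc₁, mul_one]
      rw [e1, hμ, e2, hb, map_mul, ← e2]
      ring
  haveI : IsUnit w := hw
  rw [ConcreteCategory.isIso_iff_bijective]
  have hj : Function.Bijective (LinearMap.lTensor A' idM) :=
    (LinearEquiv.lTensor A' (LinearEquiv.ofBijective idM Function.bijective_id)).bijective
  have hμb : Function.Bijective μ := by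
    refine (Function.Bijective.of_comp_iff _ hj).1 ?_
    have : (μ ∘ _) = (fun z : B' => z * w) ∘ e := funext hμe
    rw [this]
    exact hw.unit.mulRight.bijective.comp e.bijective
  exact (Function.Bijective.of_comp_iff' L.bijective _).1 ((Function.Bijective.of_comp_iff _ T.bijective).1 hμb)

/-- The mate is invertible at shifts of the structure sheaf. -/
theorem isIso_bcApp_point [Algebra.IsPushout A A' B B']
    (htor : ∀ p : ℕ, 0 < p → Subsingleton (DRing.Tor A p A' B))
    [DCoh.HasLpull (Spec.map (CommRingCat.ofHom (algebraMap A B)))]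
    [DCoh.HasRpush (Spec.map (CommRingCat.ofHom (algebraMap A B)))]
    [DCoh.HasLpull (Spec.map (CommRingCat.ofHom (algebraMap A' B')))]
    [DCoh.HasRpush (Spec.map (CommRingCat.ofHom (algebraMap A' B')))]
    [DCoh.HasLpull (Spec.map (CommRingCat.ofHom (algebraMap A A')))]
    [DCoh.HasLpull (Spec.map (CommRingCat.ofHom (algebraMap B B')))]
    (φ : DCoh.Lpull (Spec.map (CommRingCat.ofHom (algebraMap A A'))) ⋙
        DCoh.Lpull (Spec.map (CommRingCat.ofHom (algebraMap A' B'))) ≅
      DCoh.Lpull (Spec.map (CommRingCat.ofHom (algebraMap A B))) ⋙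
        DCoh.Lpull (Spec.map (CommRingCat.ofHom (algebraMap B B')))) (n : ℤ) :
    IsIso (bcApp (lpullRpushAdj (Spec.map (CommRingCat.ofHom (algebraMap A B))))
      (lpullRpushAdj (Spec.map (CommRingCat.ofHom (algebraMap A' B')))) φ.hom
      ((Tn B n).obj (ModuleCat.of B B))) := by
  let ρ := ModuleCat.restrictScalars.{u} (algebraMap A B)
  let ρ' := ModuleCat.restrictScalars.{u} (algebraMap A' B')
  let η := ModuleCat.extendScalars.{u, u, u} (algebraMap A A')
  let η' := ModuleCat.extendScalars.{u, u, u} (algebraMap B B')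
  let g := DCoh.Lpull (Spec.map (CommRingCat.ofHom (algebraMap A A')))
  let g' := DCoh.Lpull (Spec.map (CommRingCat.ofHom (algebraMap B B')))
  let R := DCoh.Rpush (Spec.map (CommRingCat.ofHom (algebraMap A B)))
  let R' := DCoh.Rpush (Spec.map (CommRingCat.ofHom (algebraMap A' B')))
  let adj := lpullRpushAdj (Spec.map (CommRingCat.ofHom (algebraMap A B)))
  let adj' := lpullRpushAdj (Spec.map (CommRingCat.ofHom (algebraMap A' B')))
  let O := ModuleCat.of B B
  let Ψ := Ψn (algebraMap A B) n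
  let Ψ' := Ψn (algebraMap A' B') n
  haveI : IsIso ((Θn (algebraMap A A') n).app (ρ.obj O)) := isIso_Θn _ n _ (isIso_Θ₀ _ fun p hp => by
    haveI := htor p hp
    exact (((Tor (ModuleCat.{u} A) p).obj (ModuleCat.of A A')).mapIso
      (asIso (H26Tor.selfHom (A := A) (A' := B)))).toLinearEquiv.symm.injective.subsingleton)
  haveI : IsIso ((Θn (algebraMap B B') n).app O) := isIso_Θn _ n _ isIso_Θ₀_self
  haveI : IsIso ((Θn (algebraMap A A') n).app (ModuleCat.of A A)) := isIso_Θn _ n _ isIso_Θ₀_self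
  haveI : IsIso ((Θn (algebraMap A B) n).app (ModuleCat.of A A)) := isIso_Θn _ n _ isIso_Θ₀_self
  let z₁ : g.obj (R.obj ((Tn B n).obj O)) ≅ (Tn A' n).obj (η.obj (ρ.obj O)) :=
    g.mapIso (Ψ.app O) ≪≫ asIso ((Θn (algebraMap A A') n).app (ρ.obj O))
  let z₂ : R'.obj (g'.obj ((Tn B n).obj O)) ≅ (Tn A' n).obj (ρ'.obj (η'.obj O)) :=
    R'.mapIso (asIso ((Θn (algebraMap B B') n).app O)) ≪≫ Ψ'.app _
  let τ := bcApp adj adj' φ.hom ((Tn B n).obj O)
  let m : η.obj (ρ.obj O) ⟶ ρ'.obj (η'.obj O) := (Tn A' n).preimage (z₁.inv ≫ τ ≫ z₂.hom)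
  have hTm : (Tn A' n).map m = z₁.inv ≫ τ ≫ z₂.hom := (Tn A' n).map_preimage _
  suffices IsIso m by
    rw [show bcApp adj adj' φ.hom ((Tn B n).obj O) = z₁.hom ≫ (Tn A' n).map m ≫ z₂.inv by
      rw [hTm]; simp [τ]]
    infer_instance
  let σ : (DCoh.Lpull (Spec.map (CommRingCat.ofHom (algebraMap A B)))).obj
      ((Tn A n).obj (ModuleCat.of A A)) ≅ (Tn B n).obj O :=
    asIso ((Θn (algebraMap A B) n).app (ModuleCat.of A A)) ≪≫ (Tn B n).mapIso extSelfIso
  let δ := adj.homEquiv _ _ σ.hom
  let v : ModuleCat.of A A ⟶ ρ.obj O := (Tn A n).preimage (δ ≫ Ψ.hom.app O)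
  have hTv : (Tn A n).map v = δ ≫ Ψ.hom.app O := (Tn A n).map_preimage _
  refine bijective_of_generators A A' B B' m (fun b => (Tn A' n).map_injective ?_) v (fun x => ?_) (fun x => ?_)
  · have e1 : z₁.inv ≫ g.map (R.map ((Tn B n).map b)) = (Tn A' n).map (η.map (ρ.map b)) ≫ z₁.inv := by
      rw [Iso.inv_comp_eq, ← Category.assoc, Iso.eq_comp_inv]
      show g.map (R.map ((Tn B n).map b)) ≫ g.map (Ψ.hom.app O) ≫ (Θn (algebraMap A A') n).app (ρ.obj O) =
        (g.map (Ψ.hom.app O) ≫ (Θn (algebraMap A A') n).app (ρ.obj O)) ≫ (Tn A' n).map (η.map (ρ.map b))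
      rw [← g.map_comp_assoc, Category.assoc]
      erw [Ψ.hom.naturality b, g.map_comp, Category.assoc, (Θn (algebraMap A A') n).naturality (ρ.map b)]
      rfl
    have e2 : R'.map (g'.map ((Tn B n).map b)) ≫ z₂.hom = z₂.hom ≫ (Tn A' n).map (ρ'.map (η'.map b)) := by
      show _ ≫ R'.map _ ≫ Ψ'.hom.app _ = (R'.map _ ≫ Ψ'.hom.app _) ≫ _
      rw [← R'.map_comp_assoc, Category.assoc]
      erw [(Θn (algebraMap B B') n).naturality b, R'.map_comp, Category.assoc, Ψ'.hom.naturality (η'.map b)]
      rfl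
    rw [Functor.map_comp, Functor.map_comp, hTm, ← Category.assoc, ← e1, Category.assoc,
      bcApp_naturality_assoc, Category.assoc, Category.assoc, e2]
  · refine ⟨(Tn B n).preimage (σ.inv ≫ (adj.homEquiv _ _).symm ((Tn A n).map x ≫ Ψ.inv.app O)),
      (Tn A n).map_injective ?_⟩
    rw [Functor.map_comp, hTv, Category.assoc]
    erw [← Ψ.hom.naturality]
    rw [Functor.comp_map, Functor.map_preimage, ← Category.assoc]
    erw [← adj.homEquiv_naturality_right]
    rw [Iso.hom_inv_id_assoc, Equiv.apply_symm_apply, Category.assoc, Iso.inv_hom_id_app]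
    exact Category.comp_id _
  · let Θ1 := asIso ((Θn (algebraMap A A') n).app (ModuleCat.of A A))
    let s : (DCoh.Lpull (Spec.map (CommRingCat.ofHom (algebraMap A' B')))).obj
        (g.obj ((Tn A n).obj (ModuleCat.of A A))) ≅ (Tn B' n).obj (η'.obj O) :=
      φ.app _ ≪≫ g'.mapIso σ ≪≫ asIso ((Θn (algebraMap B B') n).app O)
    have hs : Θ1.hom ≫ (Tn A' n).map (η.map v ≫ m) = adj'.homEquiv _ _ s.hom ≫ Ψ'.hom.app _ := by
      rw [Functor.map_comp, hTm, ← Category.assoc]
      erw [← (Θn (algebraMap A A') n).naturality v]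
      rw [Category.assoc, Functor.comp_map, hTv, g.map_comp, Category.assoc]
      rw [← Category.assoc (g.map (Ψ.hom.app O)), show g.map (Ψ.hom.app O) ≫
        (Θn (algebraMap A A') n).app (ρ.obj O) = z₁.hom from rfl, z₁.hom_inv_id_assoc]
      erw [← Category.assoc, bcApp_unit adj adj' φ.hom σ.hom]
      show adj'.homEquiv _ _ (φ.hom.app _ ≫ g'.map σ.hom) ≫ R'.map _ ≫ Ψ'.hom.app _ = _
      rw [← Category.assoc, ← adj'.homEquiv_naturality_right, Category.assoc]
      rfl
    refine ⟨(Tn B' n).preimage (s.inv ≫ (adj'.homEquiv _ _).symm (Θ1.hom ≫ (Tn A' n).map x ≫ Ψ'.inv.app _)),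
      (Tn A' n).map_injective ?_⟩
    rw [Functor.map_comp, ← cancel_epi Θ1.hom, ← Category.assoc, hs, Category.assoc]
    erw [← Ψ'.hom.naturality]
    rw [Functor.comp_map, Functor.map_preimage, ← Category.assoc]
    erw [← adj'.homEquiv_naturality_right]
    rw [Iso.hom_inv_id_assoc]
    erw [Equiv.apply_symm_apply]
    simp only [Category.assoc, Iso.inv_hom_id_app]
    exact congrArg (Θ1.hom ≫ ·) (Category.comp_id _)

end Square

end Groth.Agent.H16Derived.BaseChange
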