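import Mathlib.CategoryTheory.Adjunction.Mates
import Mathlib.CategoryTheory.Adjunction.FullyFaithful

/-!
# Base change maps of squares of left adjoints

For adjunctions `F ⊣ R`, `F' ⊣ R'` and `φ : G ⋙ F' ⟶ F ⋙ G'` we write `bcApp` for the components of
the mate `R ⋙ G ⟶ G' ⋙ R'`, and record how they behave under pasting and under change of the data.
-/

set_option autoImplicit false
set_option linter.style.haveILetI false
set_option backward.isDefEq.respectTransparency false

open CategoryTheory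

namespace Groth.Agent.H16Derived.BaseChange

variable {A B C D : Type*} [Category A] [Category B] [Category C] [Category D]
variable {F : A ⥤ B} {R : B ⥤ A} {F' : C ⥤ D} {R' : D ⥤ C} {G : A ⥤ C} {G' : B ⥤ D}

/-- The component at `E` of the base change map attached to `φ`. -/
noncomputable def bcApp (adj : F ⊣ R) (adj' : F' ⊣ R') (φ : G ⋙ F' ⟶ F ⋙ G') (E : B) :
    G.obj (R.obj E) ⟶ R'.obj (G'.obj E) :=
  adj'.homEquiv _ _ (φ.app (R.obj E) ≫ G'.map (adj.counit.app E))

variable (adj : F ⊣ R) (adj' : F' ⊣ R') (φ : G ⋙ F' ⟶ F ⋙ G')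

theorem bcApp_symm (E : B) :
    (adj'.homEquiv _ _).symm (bcApp adj adj' φ E) = φ.app (R.obj E) ≫ G'.map (adj.counit.app E) :=
  Equiv.symm_apply_apply _ _

@[reassoc]
theorem bcApp_naturality {E E' : B} (s : E ⟶ E') :
    G.map (R.map s) ≫ bcApp adj adj' φ E' = bcApp adj adj' φ E ≫ R'.map (G'.map s) := by
  apply (adj'.homEquiv _ _).symm.injective
  rw [Adjunction.homEquiv_naturality_left_symm, Adjunction.homEquiv_naturality_right_symm,
    bcApp_symm, bcApp_symm]
  have h := φ.naturality (R.map s)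
  dsimp at h
  rw [← Category.assoc, h, Category.assoc, Category.assoc, ← G'.map_comp, ← G'.map_comp]
  exact congrArg (fun t => φ.app _ ≫ G'.map t) (adj.counit_naturality s)

/-- The base change map as a natural transformation. -/
noncomputable def bc : R ⋙ G ⟶ G' ⋙ R' where
  app E := bcApp adj adj' φ E
  naturality _ _ s := bcApp_naturality adj adj' φ s

theorem bcApp_unit {c : A} {E : B} (s : F.obj c ⟶ E) :
    G.map (adj.homEquiv _ _ s) ≫ bcApp adj adj' φ E = adj'.homEquiv _ _ (φ.app c ≫ G'.map s) := by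
  apply (adj'.homEquiv _ _).symm.injective
  rw [Adjunction.homEquiv_naturality_left_symm, bcApp_symm, Equiv.symm_apply_apply]
  have h := φ.naturality (adj.homEquiv _ _ s)
  dsimp at h
  rw [← Category.assoc, h, Category.assoc, ← G'.map_comp]
  exact congrArg (fun t => φ.app _ ≫ G'.map t)
    ((Adjunction.homEquiv_counit adj c E _).symm.trans ((adj.homEquiv c E).symm_apply_apply s))

theorem isIso_bcApp_iso {E E' : B} (e : E ≅ E') (h : IsIso (bcApp adj adj' φ E)) :
    IsIso (bcApp adj adj' φ E') := by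
  have h' := bcApp_naturality adj adj' φ e.hom
  rw [show bcApp adj adj' φ E' = inv (G.map (R.map e.hom)) ≫ bcApp adj adj' φ E ≫
    R'.map (G'.map e.hom) by rw [← h', IsIso.inv_hom_id_assoc]]
  infer_instance

section Paste

variable {B₂ D₂ : Type*} [Category B₂] [Category D₂]
variable {F₂ : B ⥤ B₂} {R₂ : B₂ ⥤ B} {F₂' : D ⥤ D₂} {R₂' : D₂ ⥤ D} {G'' : B₂ ⥤ D₂}

/-- Pasting along `F`. -/
def pasteF (φ : G ⋙ F' ⟶ F ⋙ G') (ψ : G' ⋙ F₂' ⟶ F₂ ⋙ G'') :
    G ⋙ (F' ⋙ F₂') ⟶ (F ⋙ F₂) ⋙ G'' where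
  app c := F₂'.map (φ.app c) ≫ ψ.app (F.obj c)
  naturality c c' s := by
    have h1 := φ.naturality s
    have h2 := ψ.naturality (F.map s)
    dsimp at h1 h2 ⊢
    rw [← Category.assoc, ← F₂'.map_comp, h1, F₂'.map_comp, Category.assoc, h2, Category.assoc]

theorem bcApp_pasteF (adj₂ : F₂ ⊣ R₂) (adj₂' : F₂' ⊣ R₂') (ψ : G' ⋙ F₂' ⟶ F₂ ⋙ G'') (E : B₂) :
    bcApp (adj.comp adj₂) (adj'.comp adj₂') (pasteF φ ψ) E =
      bcApp adj adj' φ (R₂.obj E) ≫ R'.map (bcApp adj₂ adj₂' ψ E) := by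
  apply ((adj'.comp adj₂').homEquiv _ _).symm.injective
  rw [bcApp_symm]
  rw [Adjunction.comp_homEquiv]
  simp only [Equiv.symm_trans_apply]
  refine Eq.trans ?_ (congrArg (adj₂'.homEquiv _ _).symm
    ((adj'.homEquiv_naturality_right_symm _ _).symm))
  refine Eq.trans ?_ (adj₂'.homEquiv_naturality_left_symm _ _).symm
  erw [bcApp_symm adj adj' φ (R₂.obj E), bcApp_symm adj₂ adj₂' ψ E]
  have h := ψ.naturality (adj.counit.app (R₂.obj E))
  rw [Adjunction.comp_counit_app]
  dsimp [pasteF] at h ⊢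
  simp only [Functor.map_comp, Category.assoc]
  rw [reassoc_of% h]

variable {C₂ : Type*} [Category C₂] {G₂ : C ⥤ C₂} {G₂' : D ⥤ D₂} {F'' : C₂ ⥤ D₂} {R'' : D₂ ⥤ C₂}

/-- Pasting along `G`. -/
def pasteG (φ : G ⋙ F' ⟶ F ⋙ G') (χ : G₂ ⋙ F'' ⟶ F' ⋙ G₂') :
    (G ⋙ G₂) ⋙ F'' ⟶ F ⋙ (G' ⋙ G₂') where
  app c := χ.app (G.obj c) ≫ G₂'.map (φ.app c)
  naturality c c' s := by
    have h1 := φ.naturality s
    have h2 := χ.naturality (G.map s)
    dsimp at h1 h2 ⊢
    rw [reassoc_of% h2, ← G₂'.map_comp, h1, G₂'.map_comp, Category.assoc]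

theorem bcApp_pasteG (adj'' : F'' ⊣ R'') (χ : G₂ ⋙ F'' ⟶ F' ⋙ G₂') (E : B) :
    bcApp adj adj'' (pasteG φ χ) E =
      G₂.map (bcApp adj adj' φ E) ≫ bcApp adj' adj'' χ (G'.obj E) := by
  apply (adj''.homEquiv _ _).symm.injective
  rw [bcApp_symm, Adjunction.homEquiv_naturality_left_symm]
  erw [bcApp_symm adj' adj'' χ (G'.obj E)]
  have h := χ.naturality (bcApp adj adj' φ E)
  dsimp [pasteG] at h ⊢
  rw [reassoc_of% h, ← G₂'.map_comp, Category.assoc, ← G₂'.map_comp]
  exact congrArg (fun t => χ.app _ ≫ G₂'.map t)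
    ((bcApp_symm adj adj' φ E).symm.trans (Adjunction.homEquiv_counit adj' _ _ _))

/-- Factoring through a localisation: if `G` has a fully faithful right adjoint, every square with
edge `G ⋙ G₂` is pasted from `φ` and another one. -/
theorem exists_factor (φ : G ⋙ F' ≅ F ⋙ G') {H : C ⥤ A} (a : G ⊣ H) [IsIso a.counit]
    (Φ : (G ⋙ G₂) ⋙ F'' ≅ F ⋙ (G' ⋙ G₂')) :
    ∃ χ : G₂ ⋙ F'' ≅ F' ⋙ G₂', pasteG φ.hom χ.hom = Φ.hom := by
  haveI : ∀ k, IsIso (a.counit.app k) := fun k => inferInstance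
  let χ : G₂ ⋙ F'' ≅ F' ⋙ G₂' := NatIso.ofComponents
    (fun k => (F''.mapIso (G₂.mapIso (asIso (a.counit.app k)))).symm ≪≫ Φ.app (H.obj k) ≪≫
      G₂'.mapIso ((φ.app (H.obj k)).symm ≪≫ F'.mapIso (asIso (a.counit.app k))))
    (fun {k k'} s => by
      have h0 : inv (a.counit.app k) ≫ G.map (H.map s) = s ≫ inv (a.counit.app k') := by
        rw [IsIso.inv_comp_eq, ← Category.assoc, IsIso.eq_comp_inv]
        exact a.counit_naturality s
      have h1 := Φ.hom.naturality (H.map s)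
      have h2 := φ.inv.naturality (H.map s)
      dsimp at h1 h2 ⊢
      simp only [Category.assoc, Functor.map_comp]
      rw [← Category.assoc (F''.map (G₂.map s)), ← F''.map_comp, ← G₂.map_comp, ← h0, G₂.map_comp,
        F''.map_comp, Category.assoc, reassoc_of% h1]
      congr 2
      simp only [← G₂'.map_comp]
      congr 1
      rw [reassoc_of% h2, ← F'.map_comp, a.counit_naturality,
        F'.map_comp])
  refine ⟨χ, ?_⟩
  ext c
  haveI : IsIso (a.counit.app (G.obj c)) := inferInstance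
  have h3 : G.map (a.unit.app c) = inv (a.counit.app (G.obj c)) := by
    apply IsIso.eq_inv_of_inv_hom_id
    exact a.left_triangle_components c
  have h1 := Φ.hom.naturality (a.unit.app c)
  have h2 := φ.inv.naturality (a.unit.app c)
  dsimp at h1 h2
  simp only [pasteG, χ, NatIso.ofComponents_hom_app, Iso.trans_hom, Iso.app_hom, Functor.mapIso_hom,
    Iso.symm_hom, Functor.mapIso_inv, asIso_inv, asIso_hom, Iso.app_inv, Functor.map_comp,
    Category.assoc]
  rw [← h3, reassoc_of% h1]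
  simp only [← G₂'.map_comp]
  rw [reassoc_of% h2, ← F'.map_comp_assoc, h3, IsIso.inv_hom_id, F'.map_id, Category.id_comp]
  simp

end Paste

section Change

variable {F₀ : A ⥤ B} {R₀ : B ⥤ A} {F₀' : C ⥤ D} {R₀' : D ⥤ C} {G₀ : A ⥤ C} {G₀' : B ⥤ D}

/-- The square transported along isomorphisms of its edges. -/
noncomputable def transportSq (i : F₀ ≅ F) (i' : F₀' ≅ F') (j : G₀ ≅ G) (k : G₀' ≅ G') :
    G₀ ⋙ F₀' ⟶ F₀ ⋙ G₀' :=
  Functor.whiskerRight j.hom F₀' ≫ Functor.whiskerLeft G i'.hom ≫ φ ≫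
    Functor.whiskerRight i.inv G' ≫ Functor.whiskerLeft F₀ k.inv

/-- Change of all the data of a base change map. -/
theorem isIso_bcApp_transport (adj₀ : F₀ ⊣ R₀) (adj₀' : F₀' ⊣ R₀') (i : F₀ ≅ F) (i' : F₀' ≅ F')
    (j : G₀ ≅ G) (k : G₀' ≅ G') (E : B) :
    IsIso (bcApp adj₀ adj₀' (transportSq φ i i' j k) E) ↔ IsIso (bcApp adj adj' φ E) := by
  let r : R₀ ≅ R := conjugateIsoEquiv adj₀ adj i.symm
  let r' : R₀' ≅ R' := conjugateIsoEquiv adj₀' adj' i'.symm
  have hr : i.inv.app (R₀.obj E) ≫ adj₀.counit.app E = F.map (r.hom.app E) ≫ adj.counit.app E :=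
    (conjugateEquiv_counit adj₀ adj i.inv E).symm
  have hr' : ∀ Z : D, i'.inv.app (R₀'.obj Z) ≫ adj₀'.counit.app Z =
      F'.map (r'.hom.app Z) ≫ adj'.counit.app Z :=
    fun Z => (conjugateEquiv_counit adj₀' adj' i'.inv Z).symm
  have key : bcApp adj₀ adj₀' (transportSq φ i i' j k) E ≫ r'.hom.app _ ≫ R'.map (k.hom.app E) =
      j.hom.app (R₀.obj E) ≫ G.map (r.hom.app E) ≫ bcApp adj adj' φ E := by
    apply (adj'.homEquiv _ _).symm.injective
    rw [Adjunction.homEquiv_naturality_left_symm, Adjunction.homEquiv_naturality_left_symm,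
      Adjunction.homEquiv_naturality_left_symm, Adjunction.homEquiv_naturality_left_symm, bcApp_symm,
      Adjunction.homEquiv_counit]
    erw [adj'.counit_naturality (k.hom.app E), ← Category.assoc (F'.map (r'.hom.app _)), ← hr']
    simp only [Category.assoc]
    have e1 := i'.inv.naturality (bcApp adj₀ adj₀' (transportSq φ i i' j k) E)
    erw [reassoc_of% e1]
    rw [← Category.assoc (F₀'.map _), ← Adjunction.homEquiv_counit, bcApp_symm]
    have e2 := i'.hom.naturality (j.hom.app (R₀.obj E))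
    have e3 := φ.naturality (r.hom.app E)
    have e4 := k.inv.naturality (adj₀.counit.app E)
    dsimp [transportSq] at e2 e3 e4 ⊢
    simp only [Category.assoc]
    rw [← reassoc_of% e4, k.inv_hom_id_app, Category.comp_id, reassoc_of% e2]
    simp only [Iso.inv_hom_id_app_assoc]
    rw [reassoc_of% e3, ← G'.map_comp, ← G'.map_comp, hr]
  constructor <;> intro h
  · rw [show bcApp adj adj' φ E = inv (j.hom.app (R₀.obj E) ≫ G.map (r.hom.app E)) ≫
      bcApp adj₀ adj₀' (transportSq φ i i' j k) E ≫ r'.hom.app _ ≫ R'.map (k.hom.app E) by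
      rw [key, ← Category.assoc (j.hom.app _), IsIso.inv_hom_id_assoc]]
    infer_instance
  · rw [show bcApp adj₀ adj₀' (transportSq φ i i' j k) E = (j.hom.app (R₀.obj E) ≫ G.map (r.hom.app E) ≫
      bcApp adj adj' φ E) ≫ inv (r'.hom.app _ ≫ R'.map (k.hom.app E)) by
      rw [← key, Category.assoc, IsIso.hom_inv_id, Category.comp_id]]
    infer_instance

end Change

/-- Relation with the transpose built from the conjugate of the square. -/
theorem bcApp_eq_transpose {H : C ⥤ A} {H' : D ⥤ B} (adjG : G ⊣ H) (adjG' : G' ⊣ H')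
    (φ : G ⋙ F' ≅ F ⋙ G') (E : B) :
    adjG.homEquiv _ _ (bcApp adj adj' φ.hom E) =
      R.map (adjG'.unit.app E) ≫
        (conjugateIsoEquiv (adj.comp adjG') (adjG.comp adj') φ).hom.app (G'.obj E) := by
  have h := unit_conjugateEquiv (adj.comp adjG') (adjG.comp adj') φ.hom (R.obj E)
  have hn := (conjugateEquiv (adj.comp adjG') (adjG.comp adj') φ.hom).naturality
    (G'.map (adj.counit.app E))
  dsimp at h hn
  rw [Adjunction.comp_unit_app, Adjunction.comp_unit_app] at h
  show _ = _ ≫ (conjugateEquiv (adj.comp adjG') (adjG.comp adj') φ.hom).app _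
  rw [show R.map (adjG'.unit.app E) = adj.unit.app (R.obj E) ≫ R.map (adjG'.unit.app (F.obj (R.obj E))) ≫
      R.map (H'.map (G'.map (adj.counit.app E))) by
    rw [← R.map_comp]; erw [adjG'.unit_naturality (adj.counit.app E)]
    rw [R.map_comp, adj.right_triangle_components_assoc]; rfl]
  simp only [Category.assoc]
  rw [hn, ← Category.assoc (R.map (adjG'.unit.app _)), ← Category.assoc (adj.unit.app _),
    ← Category.assoc (adj.unit.app _), h]
  simp only [bcApp, Adjunction.homEquiv_unit, Functor.map_comp, Category.assoc]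

end Groth.Agent.H16Derived.BaseChange
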