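import Groth.Agent.H7Lim.ProperFlatModel
import Groth.Agent.H16Derived.BaseChange.RelFlatPull
import Groth.Agent.H22Alg.KBaseChangeCl

/-!
# Noetherian models of flat families of modules on projective space
-/

set_option autoImplicit false
set_option linter.style.haveILetI false
set_option backward.isDefEq.respectTransparency false

universe u

open CategoryTheory Limits AlgebraicGeometry TopologicalSpace Opposite

namespace Groth.Agent.H16Derived.BaseChange.PnModel

open H7Lim.FPDescent H17.ConsProp Groth.Agent.H22Alg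

theorem projSpaceMap_comp (n : ℕ) {A B C : Scheme.{u}} (a : A ⟶ B) (b : B ⟶ C) :
    KRR.projSpaceMap n a ≫ KRR.projSpaceMap n b = KRR.projSpaceMap n (a ≫ b) := by
  unfold KRR.projSpaceMap
  apply pullback.hom_ext <;> simp

/-- A finitely presented module on `P^r_R` flat over `R` comes from a noetherian base. -/
theorem exists_flat_model {R : Type u} [CommRing R] (r : ℕ)
    (F : (KRR.PY r (Spec (CommRingCat.of R))).Modules) (hFP : CohB1.IsFP F)
    (hfl : FlatMod.IsFlatOver (KRR.pr r (Spec (CommRingCat.of R))) F) :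
    ∃ (Y : Scheme.{u}) (_ : IsNoetherian Y) (φ : Spec (CommRingCat.of R) ⟶ Y) (F₀ : (KRR.PY r Y).Modules),
      Coh.IsCoh F₀ ∧ FlatMod.IsFlatOver (KRR.pr r Y) F₀ ∧
        Nonempty ((Scheme.Modules.pullback (KRR.projSpaceMap r φ)).obj F₀ ≅ F) := by
  haveI : Nonempty (Finset R) := ⟨∅⟩
  let D := (subringFunctor R).op ⋙ Scheme.Spec
  let c := subringCone R
  have hc : IsLimit c := isLimitSubringCone R
  haveI hpr : ∀ T : Scheme.{u}, IsProper (KRR.pr r T) := fun T => CMKer.isProper_pr r T
  haveI hlfp : ∀ T : Scheme.{u}, LocallyOfFinitePresentation (KRR.pr r T) := fun T =>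
    inferInstance
  let i : (Finset R)ᵒᵖ := op ∅
  let a : KRR.PY r (D.obj i) ⟶ D.obj i := KRR.pr r (D.obj i)
  haveI : ∀ j : Over i, IsNoetherian ((H7Lim.pbDiagram D i a).obj j) := fun j => by
    haveI : LocallyOfFiniteType (pullback.snd a (D.map j.hom)) := MorphismProperty.pullback_snd _ _ inferInstance
    exact isNoetherian_of_finiteType (pullback.snd a (D.map j.hom))
  have h₀ : IsPullback (KRR.projSpaceMap r (c.π.app i)) (KRR.pr r c.pt) a (c.π.app i) :=
    KBaseChangeCl.isPullback_map _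
  let e := h₀.isoPullback
  let F' : (pullback a (c.π.app i)).Modules := (Scheme.Modules.pullback e.inv).obj F
  haveI : Coh.IsQCoh F' := H29Fitt.isQCoh_pullback _ F (H29Fitt.isQCoh_of_isFP F hFP)
  obtain ⟨k, -, G, hG, ⟨iso⟩⟩ := H17.ModDescent.exists_descend (c := H7Lim.pbCone D c i a)
    (H7Lim.isLimitPbCone D i a hc) (Over.mk (𝟙 i)) F' (H06EGA9.isFP_pullback e.inv hFP)
  -- transport to `P^r` over the stage
  let j := k.left
  let f₁ := KRR.pr r (D.obj j)
  let t := (KBaseChangeCl.isPullback_map (n := r) (D.map k.hom)).isoPullback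
  let F₁ : (KRR.PY r (D.obj j)).Modules := (Scheme.Modules.pullback t.hom).obj G
  haveI : IsNoetherian (KRR.PY r (D.obj j)) := isNoetherian_of_finiteType f₁
  have hF₁ : Coh.IsCoh F₁ := isCoh_pullback _ hG
  have hFP₁ : CohB1.IsFP F₁ := H10Coh.isFP_of_isCoh F₁ hF₁
  let π := (H7Lim.pbCone D c i a).π.app k
  have hπ₁ : π ≫ pullback.fst a (D.map k.hom) = pullback.fst a (c.π.app i) :=
    (pullback.lift_fst _ _ _).trans (Category.comp_id _)
  have hπ₂ : π ≫ pullback.snd a (D.map k.hom) = pullback.snd a (c.π.app i) ≫ c.π.app j :=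
    pullback.lift_snd _ _ _
  have hq : KRR.projSpaceMap r (c.π.app j) ≫ t.hom = e.hom ≫ π := by
    apply pullback.hom_ext
    · erw [Category.assoc, Category.assoc, hπ₁, IsPullback.isoPullback_hom_fst,
        IsPullback.isoPullback_hom_fst]
      exact (projSpaceMap_comp r _ _).trans (congrArg _ (c.w k.hom))
    · erw [Category.assoc, Category.assoc, hπ₂, IsPullback.isoPullback_hom_snd,
        IsPullback.isoPullback_hom_snd_assoc]
      exact (KBaseChangeCl.isPullback_map (n := r) (c.π.app j)).w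
  let e₁ : (Scheme.Modules.pullback (KRR.projSpaceMap r (c.π.app j))).obj F₁ ≅ F :=
    (Scheme.Modules.pullbackComp _ t.hom).app G ≪≫ (Scheme.Modules.pullbackCongr hq).app G ≪≫
      ((Scheme.Modules.pullbackComp e.hom π).app G).symm ≪≫ (Scheme.Modules.pullback e.hom).mapIso iso ≪≫
      (Scheme.Modules.pullbackComp e.hom e.inv).app F ≪≫ (Scheme.Modules.pullbackCongr e.hom_inv_id).app F ≪≫
      (Scheme.Modules.pullbackId _).app F
  -- flatness
  let D' : Over j ⥤ Over (D.obj j) := Over.post D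
  let c' : Cone D' := c.overPost j
  have hc' : IsLimit ((Over.forget (D.obj j)).mapCone c') :=
    ((Functor.Initial.isLimitWhiskerEquiv (Over.forget j) c).symm hc).ofIsoLimit
      (Cone.ext (Iso.refl _) fun k => (Category.id_comp _).symm)
  have hsq : IsPullback (KRR.projSpaceMap r (c.π.app j)) (KRR.pr r c.pt) f₁ (c.π.app j) :=
    KBaseChangeCl.isPullback_map _
  let s : PicF.XT f₁ c'.pt ≅ KRR.PY r c.pt := hsq.isoPullback.symm
  have hs : IsPullback s.hom (PicF.XTproj f₁ c'.pt) (KRR.pr r c.pt) (𝟙 _) :=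
    IsPullback.of_horiz_isIso ⟨by rw [Category.comp_id]; exact hsq.isoPullback_inv_snd⟩
  have hlim : FlatMod.IsFlatOver (PicF.XTproj f₁ c'.pt) (FGA.ET f₁ F₁ c'.pt) := fun x =>
    BaseChange.isFlatOverAt_of_iso
      ((Scheme.Modules.pullback s.hom).mapIso e₁.symm ≪≫
        (Scheme.Modules.pullbackComp s.hom _).app F₁ ≪≫
        (Scheme.Modules.pullbackCongr hsq.isoPullback_inv_fst).app F₁)
      (BaseChange.isFlatOver_pullback hs hfl x)
  obtain ⟨l, hl⟩ := H8Props.FunDescent.exists_flat_stage f₁ F₁ hF₁.1 hFP₁ D' c' hc'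
    (fun k => inferInstanceAs (IsAffine (Spec _))) hlim
  let w := D.map l.hom
  let t₂ : KRR.PY r (D.obj l.left) ≅ PicF.XT f₁ (D'.obj l) :=
    (KBaseChangeCl.isPullback_map (n := r) w).isoPullback
  have ht₂ : IsPullback t₂.hom (KRR.pr r (D.obj l.left)) (PicF.XTproj f₁ (D'.obj l)) (𝟙 _) :=
    IsPullback.of_horiz_isIso ⟨by
      rw [Category.comp_id]; exact (KBaseChangeCl.isPullback_map (n := r) w).isoPullback_hom_snd⟩
  haveI : IsNoetherian (KRR.PY r (D.obj l.left)) := isNoetherian_of_finiteType (KRR.pr r (D.obj l.left))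
  refine ⟨D.obj l.left, inferInstance, c.π.app l.left,
    (Scheme.Modules.pullback (KRR.projSpaceMap r w)).obj F₁, isCoh_pullback _ hF₁, fun x =>
      BaseChange.isFlatOverAt_of_iso
        ((Scheme.Modules.pullbackComp t₂.hom _).app F₁ ≪≫
          (Scheme.Modules.pullbackCongr (KBaseChangeCl.isPullback_map (n := r) w).isoPullback_hom_fst).app F₁)
        (BaseChange.isFlatOver_pullback ht₂ hl x), ⟨?_⟩⟩
  exact (Scheme.Modules.pullbackComp (KRR.projSpaceMap r (c.π.app l.left)) (KRR.projSpaceMap r w)).app F₁ ≪≫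
    (Scheme.Modules.pullbackCongr (by rw [projSpaceMap_comp]; exact congrArg _ (c.w l.hom))).app F₁ ≪≫ e₁

end Groth.Agent.H16Derived.BaseChange.PnModel
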