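import Groth.Agent.H16Derived.BaseChange.FlatSES
import Groth.Agent.H16Derived.TorTest.RelFlatPC
import Groth.Agent.H22Alg.BCReg
import Groth.Agent.H22Alg.KBaseChangeCl
import Groth.Agent.H10Inj.FlatTwist
import Groth.Agent.H10Coh.FinType2

/-!
# Base change for regular coherent modules on `P^n_Y` flat over the base
-/

set_option autoImplicit false
set_option linter.style.haveILetI false

universe u

open CategoryTheory CategoryTheory.Limits AlgebraicGeometry ZeroObject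
open Groth.Agent.H11Tilde Groth.Agent.H11Ample Groth.Agent.H22Alg
attribute [local instance] HasDerivedCategory.standard
attribute [local instance 10000] Groth.Agent.H10Coh.hasSheafifyAb Groth.Agent.H10Coh.hasWeakSheafifyAb Groth.Agent.H10Coh.hasExtAb Groth.Agent.H10Coh.enoughInjAb

noncomputable section

namespace Groth.Agent.H16Derived.BaseChange.RegFlat

open SyzPn BCReg KFlat.Stalk

variable {n : ℕ} {Y : Scheme.{u}}

/-- Twisting preserves flatness over the base. -/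
theorem isFlatOver_twF (d : ℤ) {F : (KRR.PY n Y).Modules} (hF : FlatMod.IsFlatOver (KRR.pr n Y) F) :
    FlatMod.IsFlatOver (KRR.pr n Y) (KRR.twF n Y d F) := fun x =>
  BaseChange.isFlatOverAt_of_iso (H10Coh.Tw.commIso F (Twist.twistOver n Y d))
    (H10Inj.FlatTwist.isFlatOver_tensor (KRR.pr n Y) hF (RegSheaf.isInvertible_twistOver (n := n) (T := Y) d) x)

variable [IsNoetherian Y] {F : (KRR.PY n Y).Modules}

theorem finLocFree_push (hF : Coh.IsCoh F) (hfl : FlatMod.IsFlatOver (KRR.pr n Y) F)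
    (hreg : KRR.IsRegSheaf n Y F) :
    FlatMod.IsFinLocFree ((Scheme.Modules.pushforward (KRR.pr n Y)).obj F) := by
  haveI := CMKer.isProper_pr n Y
  exact AcyclicPush.finLocFree_pushforward (KRR.pr n Y) hF hfl fun _ hi => CMReg.van_self hreg hi

theorem next_flat (hF : Coh.IsCoh F) (hfl : FlatMod.IsFlatOver (KRR.pr n Y) F)
    (hreg : KRR.IsRegSheaf n Y F) :
    Coh.IsCoh (next n Y F) ∧ FlatMod.IsFlatOver (KRR.pr n Y) (next n Y F) := by
  haveI := CMKer.isProper_pr n Y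
  haveI := PnVan.flat_pr n Y
  haveI : IsLocallyNoetherian (KRR.PY n Y) := LocallyOfFiniteType.isLocallyNoetherian (KRR.pr n Y)
  haveI := CMGen.epi_counit hF.1 hreg
  have hP := isFinLocFree_pullback (KRR.pr n Y) (finLocFree_push hF hfl hreg)
  have hK : FlatMod.IsFlatOver (KRR.pr n Y) (kernel (ε n Y F)) :=
    TorTest.isFlatOver_left (shortExact_ker F)
      (BaseChange.isFlatOver_of_isFlat (KRR.pr n Y) (isFlat_of_isFinLocFree hP)) hfl
  refine ⟨H10Coh.isCoh_of_iso (H10Coh.Tw.commIso (kernel (ε n Y F)) _)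
    (H11Ample.isCoh_tensor (H10Coh.isCoh_kernel (ε n Y F) (isCoh_of_isFinLocFree hP) hF.1)
      (RegSheaf.isInvertible_twistOver (n := n) (T := Y) 1)), isFlatOver_twF 1 hK⟩

theorem good_Fk (hF : Coh.IsCoh F) (hfl : FlatMod.IsFlatOver (KRR.pr n Y) F) (hreg : KRR.IsRegSheaf n Y F) :
    ∀ k, Coh.IsCoh (Fk F k) ∧ FlatMod.IsFlatOver (KRR.pr n Y) (Fk F k)
  | 0 => ⟨hF, hfl⟩
  | k + 1 => next_flat (good_Fk hF hfl hreg k).1 (good_Fk hF hfl hreg k).2 (good hF.1 hreg k).2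

variable {Y₁ : Scheme.{u}} (φ : Y₁ ⟶ Y)

omit [AlgebraicGeometry.IsNoetherian Y] in
theorem hsq : KRR.projSpaceMap n φ ≫ KRR.pr n Y = KRR.pr n Y₁ ≫ φ := (KBaseChangeCl.isPullback_map φ).w

theorem shortExact_pull (hF : Coh.IsCoh F) (hfl : FlatMod.IsFlatOver (KRR.pr n Y) F)
    (hreg : KRR.IsRegSheaf n Y F) :
    ((ShortComplex.mk (kernel.ι (ε n Y F)) (ε n Y F) (kernel.condition _)).map (Ψ n φ)).ShortExact := by
  haveI := CMGen.epi_counit hF.1 hreg
  exact BaseChange.shortExact_pullback_of_flatOver (KBaseChangeCl.isPullback_map φ) (shortExact_ker F) hfl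

theorem isZero_pull_Fk (hF : Coh.IsCoh F) (hreg : KRR.IsRegSheaf n Y F) (k : ℕ) :
    IsZero ((Ψ n φ).obj (Fk F (n + 1 + k))) := by
  haveI : (Ψ n φ).IsLeftAdjoint :=
    (Scheme.Modules.pullbackPushforwardAdjunction (KRR.projSpaceMap n φ)).isLeftAdjoint
  exact (Ψ n φ).map_isZero (isZero_Fk hF.1 hreg k)

theorem reg_pull_Fk (hF : Coh.IsCoh F) (hfl : FlatMod.IsFlatOver (KRR.pr n Y) F) (hreg : KRR.IsRegSheaf n Y F) :
    ∀ e k, n + 1 ≤ k + e → KRR.IsRegSheaf n Y₁ ((Ψ n φ).obj (Fk F k))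
  | 0, k, hk => by
    obtain ⟨m, rfl⟩ : ∃ m, k = n + 1 + m := ⟨k - (n + 1), by omega⟩
    exact fun i _ => CMReg.van_iso ((isZero_zero _).iso (isZero_twF (isZero_pull_Fk φ hF hreg m))) CMReg.van_zero
  | e + 1, k, hk => by
    have hq := good hF.1 hreg k
    have hg := good_Fk hF hfl hreg k
    have h1 : KRR.IsRegSheaf n Y₁ (KRR.twF n Y₁ 1 ((Ψ n φ).obj (kernel (ε n Y (Fk F k))))) := fun i hi => by
      obtain ⟨e'⟩ := nonempty_pull_twF (n := n) φ 1 (kernel (ε n Y (Fk F k)))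
      exact CMReg.van_iso (((DCoh.tensorBi (X := KRR.PY n Y₁)).obj (Twist.twistOver n Y₁ (-(i : ℤ)))).mapIso e')
        (reg_pull_Fk hF hfl hreg e (k + 1) (by omega) i hi)
    exact RegSheaf.reg_right (S := (ShortComplex.mk (kernel.ι (ε n Y (Fk F k))) (ε n Y (Fk F k))
      (kernel.condition _)).map (Ψ n φ)) (shortExact_pull φ hg.1 hg.2 hq.2)
      (reg_pull_PP φ (hsq φ) hq.1) h1

theorem van_pull_Fk (hF : Coh.IsCoh F) (hfl : FlatMod.IsFlatOver (KRR.pr n Y) F) (hreg : KRR.IsRegSheaf n Y F) :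
    ∀ e k, n + 1 ≤ k + e → ∀ a, 1 ≤ a → a ≤ k → ∀ q,
      CMReg.Van q (KRR.twF n Y₁ (-(a : ℤ)) ((Ψ n φ).obj (Fk F k)))
  | 0, k, hk, a, _, _, q => by
    obtain ⟨m, rfl⟩ : ∃ m, k = n + 1 + m := ⟨k - (n + 1), by omega⟩
    exact CMReg.van_iso ((isZero_zero _).iso (isZero_twF (isZero_pull_Fk φ hF hreg m))) CMReg.van_zero
  | e + 1, k, hk, a, ha, hak, q => by
    by_cases hkn : n + 1 ≤ k
    · exact van_pull_Fk hF hfl hreg e k (by omega) a ha hak q
    have hq := good hF.1 hreg k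
    have hg := good_Fk hF hfl hreg k
    have hS := RegSheaf.shortExact_twist (n := n) (T := Y₁) (-(a : ℤ)) (shortExact_pull φ hg.1 hg.2 hq.2)
    refine RegSheaf.isZero_right (Coh.pushAb (KRR.pr n Y₁)) (RegSheaf.shortExact_toAb hS) q
      (van_pull_PP φ (hsq φ) hq.1 (Or.inr (by omega)) (by omega)) ?_
    obtain ⟨e'⟩ := nonempty_pull_twF (n := n) φ 1 (kernel (ε n Y (Fk F k)))
    obtain ⟨e''⟩ := RegSheaf.nonempty_twF_twF (n := n) (T := Y₁) (-((a + 1 : ℕ) : ℤ)) 1 (-(a : ℤ))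
      (by push_cast; ring) ((Ψ n φ).obj (kernel (ε n Y (Fk F k))))
    exact CMReg.van_iso (((DCoh.tensorBi (X := KRR.PY n Y₁)).obj (Twist.twistOver n Y₁ (-((a + 1 : ℕ) : ℤ)))).mapIso e' ≪≫ e'')
      (van_pull_Fk hF hfl hreg e (k + 1) (by omega) (a + 1) (by omega) (by omega) (q + 1))

/-- Base changes of regular coherent modules flat over the base are regular. -/
theorem reg_pull (hF : Coh.IsCoh F) (hfl : FlatMod.IsFlatOver (KRR.pr n Y) F) (hreg : KRR.IsRegSheaf n Y F) :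
    KRR.IsRegSheaf n Y₁ ((Ψ n φ).obj F) := reg_pull_Fk φ hF hfl hreg (n + 1) 0 (by omega)

theorem van_pull_kernel (hF : Coh.IsCoh F) (hfl : FlatMod.IsFlatOver (KRR.pr n Y) F)
    (hreg : KRR.IsRegSheaf n Y F) (q : ℕ) : CMReg.Van q ((Ψ n φ).obj (kernel (ε n Y F))) := by
  obtain ⟨e'⟩ := nonempty_pull_twF (n := n) φ 1 (kernel (ε n Y F))
  obtain ⟨e''⟩ := RegSheaf.nonempty_twF_twF (n := n) (T := Y₁) (-1) 1 0 (by ring) ((Ψ n φ).obj (kernel (ε n Y F)))
  obtain ⟨e'''⟩ := RegSheaf.nonempty_twF_zero (n := n) (T := Y₁) ((Ψ n φ).obj (kernel (ε n Y F)))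
  exact CMReg.van_iso (((DCoh.tensorBi (X := KRR.PY n Y₁)).obj (Twist.twistOver n Y₁ (-1))).mapIso e' ≪≫ e'' ≪≫ e''')
    (van_pull_Fk φ hF hfl hreg n 1 (by omega) 1 le_rfl le_rfl q)

theorem isIso_push_pull_ε (hF : Coh.IsCoh F) (hfl : FlatMod.IsFlatOver (KRR.pr n Y) F)
    (hreg : KRR.IsRegSheaf n Y F) :
    IsIso ((Scheme.Modules.pushforward (KRR.pr n Y₁)).map ((Ψ n φ).map (ε n Y F))) := by
  have hS := shortExact_pull φ hF hfl hreg
  haveI : (Scheme.Modules.pushforward (KRR.pr n Y₁)).IsRightAdjoint :=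
    (Scheme.Modules.pullbackPushforwardAdjunction (KRR.pr n Y₁)).isRightAdjoint
  haveI := hS.mono_f
  have h0 := van_zero_iff.1 (van_pull_kernel φ hF hfl hreg 0)
  haveI : Epi ((Scheme.Modules.pushforward (KRR.pr n Y₁)).map ((Ψ n φ).map (ε n Y F))) := by
    haveI : Epi ((H10Coh.shF Y₁).map ((Scheme.Modules.pushforward (KRR.pr n Y₁)).map ((Ψ n φ).map (ε n Y F)))) :=
      ExactVanish.epi_map_g (Coh.pushAb (KRR.pr n Y₁)) (RegSheaf.shortExact_toAb hS)
        (van_pull_kernel φ hF hfl hreg 1)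
    exact (H10Coh.shF Y₁).epi_of_epi_map ‹_›
  haveI : Mono ((Scheme.Modules.pushforward (KRR.pr n Y₁)).map ((Ψ n φ).map (ε n Y F))) :=
    (hS.exact.map_of_mono_of_preservesKernel (Scheme.Modules.pushforward (KRR.pr n Y₁)) hS.mono_f inferInstance).mono_g
      (h0.eq_of_src _ _)
  exact isIso_of_mono_of_epi _

/-- Direct images of base changes of regular coherent modules flat over the base are bundles. -/
theorem finLocFree_push_pull (hF : Coh.IsCoh F) (hfl : FlatMod.IsFlatOver (KRR.pr n Y) F)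
    (hreg : KRR.IsRegSheaf n Y F) :
    FlatMod.IsFinLocFree ((Scheme.Modules.pushforward (KRR.pr n Y₁)).obj ((Ψ n φ).obj F)) := by
  haveI := isIso_push_pull_ε φ hF hfl hreg
  have hM := isFinLocFree_pullback φ (finLocFree_push hF hfl hreg)
  haveI := PnUnit.isIso_unit (n := n) _ (H8Props.FinLocFree.isQCoh_of_isFinLocFree _ hM)
  exact isFinLocFree_of_iso
    (asIso ((Scheme.Modules.pullbackPushforwardAdjunction (KRR.pr n Y₁)).unit.app _) ≪≫
      (Scheme.Modules.pushforward (KRR.pr n Y₁)).mapIso (sqIso φ (hsq φ) _) ≪≫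
      asIso ((Scheme.Modules.pushforward (KRR.pr n Y₁)).map ((Ψ n φ).map (ε n Y F)))) hM

end Groth.Agent.H16Derived.BaseChange.RegFlat
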