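import Groth.Agent.H16Derived.BaseChange.Main
import Groth.Agent.H26Tor.BaseChange

/-!
# Tor independence tested on affine opens
-/

set_option autoImplicit false
set_option linter.style.haveILetI false
set_option backward.isDefEq.respectTransparency false

universe u

open CategoryTheory CategoryTheory.Limits AlgebraicGeometry TensorProduct

namespace Groth.Agent.H16Derived.BaseChange

/-- `Tor` does not see an isomorphism of base rings. -/
theorem subsingleton_tor_of_bijective (A R : Type u) [CommRing A] [CommRing R] [Algebra A R]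
    (hb : Function.Bijective (algebraMap A R)) (P Q : Type u) [AddCommGroup P] [Module R P] [Module A P]
    [IsScalarTower A R P] [AddCommGroup Q] [Module R Q] [Module A Q] [IsScalarTower A R Q] (n : ℕ)
    (h : Subsingleton (DRing.Tor R n P Q)) : Subsingleton (DRing.Tor A n P Q) := by
  haveI : Module.Flat A R := Module.Flat.of_linearEquiv
    (LinearEquiv.ofBijective (Algebra.linearMap A R) hb).symm
  obtain ⟨F⟩ : Nonempty (ProjectiveResolution (ModuleCat.of A Q)) := HasProjectiveResolution.out
  obtain ⟨σ, hσ⟩ := H26Tor.exists_semilinear_tor_right (A := A) (A' := R) P F (fun m => by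
    rw [HomologicalComplex.exactAt_iff_isZero_homology]
    exact (H1CAlg.isZero_Tor_of_flat (ModuleCat.of A R) (ModuleCat.of A Q) m).of_iso
      (F.isoLeftDerivedObj ((MonoidalCategory.tensoringLeft (ModuleCat.{u} A)).obj (ModuleCat.of A R)) (m + 1)).symm) n
  let T : R ⊗[A] Q ≃ₗ[R] Q := LinearEquiv.ofBijective
    (TensorProduct.AlgebraTensorModule.lift
      (LinearMap.toSpanSingleton R (Q →ₗ[A] Q) LinearMap.id)) (by
      refine ⟨fun s t hst => ?_, fun q => ⟨(1 : R) ⊗ₜ q, by simp⟩⟩
      have key : ∀ z : R ⊗[A] Q, ∃ q : Q, z = (1 : R) ⊗ₜ q := by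
        intro z
        induction z using TensorProduct.induction_on with
        | zero => exact ⟨0, by simp⟩
        | add z w hz hw =>
          obtain ⟨p, rfl⟩ := hz
          obtain ⟨q, rfl⟩ := hw
          exact ⟨p + q, (TensorProduct.tmul_add _ _ _).symm⟩
        | tmul r q =>
          obtain ⟨a, rfl⟩ := hb.2 r
          exact ⟨a • q, by rw [← TensorProduct.smul_tmul, Algebra.algebraMap_eq_smul_one]⟩
      obtain ⟨p, rfl⟩ := key s
      obtain ⟨q, rfl⟩ := key t
      simp at hst
      rw [hst])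
  let e : (ModuleCat.extendScalars (algebraMap A R)).obj (ModuleCat.of A Q) ≅ ModuleCat.of R Q :=
    ((H26Tor.extendEquiv (A' := R) (ModuleCat.of A Q)).symm ≪≫ₗ T).toModuleIso
  haveI : Subsingleton (((Tor (ModuleCat.{u} R) n).obj (ModuleCat.of R P)).obj
      ((ModuleCat.extendScalars (algebraMap A R)).obj (ModuleCat.of A Q))) :=
    haveI := h
    (((Tor (ModuleCat.{u} R) n).obj (ModuleCat.of R P)).mapIso e).toLinearEquiv.injective.subsingleton
  exact hσ.1.subsingleton

variable {X Y Y' : Scheme.{u}}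

theorem exists_ringIso_of_opensRange {A : CommRingCat.{u}} (a : Spec A ⟶ Y) [IsOpenImmersion a] :
    ∃ (ε : Γ(Y, a.opensRange) ⟶ A) (_ : IsIso ε),
      Spec.map ε ≫ (isAffineOpen_opensRange a).fromSpec = a := by
  let hU := isAffineOpen_opensRange a
  let σ := IsOpenImmersion.isoOfRangeEq a hU.fromSpec (by
    rw [IsAffineOpen.range_fromSpec]; rfl)
  refine ⟨Spec.preimage σ.hom, ?_, ?_⟩
  · haveI h : IsIso (Scheme.Spec.map (Spec.preimage σ.hom).op) := by
      show IsIso (Spec.map (Spec.preimage σ.hom))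
      rw [Spec.map_preimage]; infer_instance
    haveI := isIso_of_reflects_iso (Spec.preimage σ.hom).op Scheme.Spec
    exact isIso_of_op _
  · rw [Spec.map_preimage]
    exact IsOpenImmersion.lift_fac _ _ _

/-- Tor independence may be checked on affine opens. -/
theorem ti_of_opens (f : X ⟶ Y) (g : Y' ⟶ Y)
    (htor : ∀ (U : Y.Opens), IsAffineOpen U → ∀ (U' : Y'.Opens), IsAffineOpen U' → ∀ (hU' : U' ≤ g ⁻¹ᵁ U)
      (V : X.Opens), IsAffineOpen V → ∀ (hV : V ≤ f ⁻¹ᵁ U) (i : ℕ), 0 < i →
      Subsingleton (@DRing.Tor Γ(Y, U) _ i Γ(Y', U') Γ(X, V) _ (g.appLE U U' hU').hom.toModule _ (f.appLE U V hV).hom.toModule)) :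
    TI f g := by
  intro A A' B a a' b _ _ _ φ ψ h1 h2 n hn
  obtain ⟨ε, _, hε⟩ := exists_ringIso_of_opensRange a
  obtain ⟨ε', _, hε'⟩ := exists_ringIso_of_opensRange a'
  obtain ⟨εb, _, hεb⟩ := exists_ringIso_of_opensRange b
  have hle : a'.opensRange ≤ g ⁻¹ᵁ a.opensRange := by
    rintro _ ⟨x, rfl⟩
    exact ⟨(Spec.map φ).base x, congrArg (fun t : Spec A' ⟶ Y => t.base x) h1⟩
  have hleV : b.opensRange ≤ f ⁻¹ᵁ a.opensRange := by
    rintro _ ⟨x, rfl⟩
    exact ⟨(Spec.map ψ).base x, congrArg (fun t : Spec B ⟶ Y => t.base x) h2⟩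
  have hT := htor _ (isAffineOpen_opensRange a) _ (isAffineOpen_opensRange a') hle _
    (isAffineOpen_opensRange b) hleV n hn
  let μ := g.appLE a.opensRange a'.opensRange hle
  let ν := f.appLE a.opensRange b.opensRange hleV
  have c1 : μ ≫ ε' = ε ≫ φ := by
    refine Spec.map_injective ((cancel_mono (isAffineOpen_opensRange a).fromSpec).1 ?_)
    rw [Spec.map_comp, Spec.map_comp, Category.assoc, Category.assoc, hε,
      IsAffineOpen.SpecMap_appLE_fromSpec g (isAffineOpen_opensRange a) (isAffineOpen_opensRange a') hle,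
      ← Category.assoc, hε', h1]
  have c2 : ν ≫ εb = ε ≫ ψ := by
    refine Spec.map_injective ((cancel_mono (isAffineOpen_opensRange a).fromSpec).1 ?_)
    rw [Spec.map_comp, Spec.map_comp, Category.assoc, Category.assoc, hε,
      IsAffineOpen.SpecMap_appLE_fromSpec f (isAffineOpen_opensRange a) (isAffineOpen_opensRange b) hleV,
      ← Category.assoc, hεb, h2]
  let R := Γ(Y, a.opensRange)
  let e : A ⟶ R := inv ε
  algebraize [φ.hom, ψ.hom, e.hom]
  letI : Module R Γ(Y', a'.opensRange) := μ.hom.toModule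
  letI : Module R Γ(X, b.opensRange) := ν.hom.toModule
  letI : Module A Γ(Y', a'.opensRange) := (μ.hom.comp e.hom).toModule
  letI : Module A Γ(X, b.opensRange) := (ν.hom.comp e.hom).toModule
  haveI : IsScalarTower A R Γ(Y', a'.opensRange) := IsScalarTower.of_algebraMap_smul fun _ _ => rfl
  haveI : IsScalarTower A R Γ(X, b.opensRange) := IsScalarTower.of_algebraMap_smul fun _ _ => rfl
  haveI := subsingleton_tor_of_bijective A R (ConcreteCategory.bijective_of_isIso e)
    Γ(Y', a'.opensRange) Γ(X, b.opensRange) n hT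
  have l1 : ∀ (r : A) (x : Γ(Y', a'.opensRange)), ε' (μ (e r) * x) = φ r * ε' x := fun r x => by
    rw [map_mul, ← CommRingCat.comp_apply μ ε', c1, CommRingCat.comp_apply, ← CommRingCat.comp_apply e ε]
    simp [e]
  have l2 : ∀ (r : A) (x : Γ(X, b.opensRange)), εb (ν (e r) * x) = ψ r * εb x := fun r x => by
    rw [map_mul, ← CommRingCat.comp_apply ν εb, c2, CommRingCat.comp_apply, ← CommRingCat.comp_apply e ε]
    simp [e]
  let p : Γ(Y', a'.opensRange) ≃ₗ[A] A' := LinearEquiv.ofBijective
    { toFun := ε', map_add' := map_add _, map_smul' := l1 } (ConcreteCategory.bijective_of_isIso ε')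
  let q : Γ(X, b.opensRange) ≃ₗ[A] B := LinearEquiv.ofBijective
    { toFun := εb, map_add' := map_add _, map_smul' := l2 } (ConcreteCategory.bijective_of_isIso εb)
  exact ((((Tor (ModuleCat.{u} A) n).obj (ModuleCat.of A Γ(Y', a'.opensRange))).mapIso q.toModuleIso ≪≫
    ((Tor (ModuleCat.{u} A) n).mapIso p.toModuleIso).app (ModuleCat.of A B)).toLinearEquiv).symm.injective.subsingleton

end Groth.Agent.H16Derived.BaseChange
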